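import Cfsg.Agent.Lib.Classical.SpFourEven.FieldExt

/-!
# A transvection above the symplectic group of a plane over a quadratic extension, odd characteristic
-/

set_option autoImplicit false
set_option linter.unusedSectionVars false

namespace CfsgLib.Classical.GeoFour.Sp

open Module CfsgLib.Classical CfsgLib.Classical.FieldExtMax CfsgLib.Classical.FieldExtSymp

variable {F K V : Type*} [Field F] [Field K] [Algebra F K] [AddCommGroup V] [Module F V] [Module K V]
  [IsScalarTower F K V] [FiniteDimensional F K] [FiniteDimensional K V]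
  {B : V →ₗ[F] V →ₗ[F] F} {φ : V →ₗ[K] V →ₗ[K] K} {f₀ : K →ₗ[F] F} {M : Subgroup (V ≃ₗ[F] V)}

variable (h : Setting B φ f₀ M)
include h

theorem exists_transvection (h2 : (2 : F) ≠ 0) (hr : finrank F K = 2) (hdim : finrank K V = 2)
    {g : V ≃ₗ[F] V} (hg : g ∈ M) {a : V} (hne : ∃ k : K, g (k • a) ∉ line F K (g a)) :
    ∃ z : V, z ≠ 0 ∧ ∃ c₀ : F, c₀ ≠ 0 ∧ Has M ((c₀ • B.flip z).smulRight z) := by
  haveI : FiniteDimensional F V := FiniteDimensional.trans F K V
  obtain ⟨k₀, hk₀⟩ := hne
  have ha : a ≠ 0 := by rintro rfl; simp at hk₀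
  set z := g a with hz
  set q := g (k₀ • a) with hq'
  have hz0 : z ≠ 0 := fun e => ha (g.injective (e.trans (map_zero g).symm))
  have hspan : ∀ x ∈ line F K a, ∃ s s' : F, g x = s • z + s' • q := by
    have hle : Submodule.span F ({z, q} : Set V) ≤ (line F K a).map g.toLinearMap := by
      rw [Submodule.span_le, Set.insert_subset_iff, Set.singleton_subset_iff]
      exact ⟨⟨a, self_mem_line a, rfl⟩, ⟨k₀ • a, smul_mem_line a k₀, rfl⟩⟩
    have hlt : finrank F (F ∙ z : Submodule F V) < finrank F ↥(Submodule.span F ({z, q} : Set V)) := by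
      refine Submodule.finrank_lt_finrank_of_lt (lt_of_le_of_ne (Submodule.span_mono (by simp)) fun e => hk₀ ?_)
      have hmem : q ∈ (F ∙ z : Submodule F V) := by rw [e]; exact Submodule.subset_span (by simp)
      obtain ⟨s, hs⟩ := Submodule.mem_span_singleton.1 hmem
      rw [← hs]
      exact Submodule.smul_mem _ s (self_mem_line z)
    rw [finrank_span_singleton hz0] at hlt
    have heq := Submodule.eq_of_le_of_finrank_le hle (by
      rw [LinearEquiv.finrank_map_eq, finrank_line ha, hr]; omega)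
    intro x hx
    have hmem : g x ∈ (line F K a).map g.toLinearMap := ⟨x, hx, rfl⟩
    rw [← heq] at hmem
    obtain ⟨s, s', e⟩ := Submodule.mem_span_pair.1 hmem
    exact ⟨s, s', e.symm⟩
  have hqz : B q z = 0 := by
    rw [hq', hz, h.isom g hg]
    exact h.line_isotropic (smul_mem_line a k₀) (self_mem_line a)
  -- a vector on the line of `z` outside the image of the line of `a`
  obtain ⟨y, hy, hyz⟩ : ∃ y ∈ line F K z, y ∉ (F ∙ z : Submodule F V) := by
    by_contra hc
    push Not at hc
    have := Submodule.finrank_mono (show line F K z ≤ (F ∙ z : Submodule F V) from hc)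
    rw [finrank_line hz0, finrank_span_singleton hz0, hr] at this
    omega
  have hyP : φ (g.symm y) a ≠ 0 := by
    intro h0
    obtain ⟨s, s', e⟩ := hspan _ (SpFourEven.mem_line_of_phi_zero h hdim ha h0)
    rw [g.apply_symm_apply] at e
    by_cases hs' : s' = 0
    · exact hyz (Submodule.mem_span_singleton.2 ⟨s, by rw [e, hs', zero_smul, add_zero]⟩)
    · refine hk₀ ?_
      have : q = s'⁻¹ • (y - s • z) := by rw [e, add_sub_cancel_left, smul_smul, inv_mul_cancel₀ hs', one_smul]
      rw [this]
      exact Submodule.smul_mem _ _ (sub_mem hy (Submodule.smul_mem _ _ (self_mem_line z)))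
  have hyzB : B y z = 0 := h.line_isotropic hy (self_mem_line z)
  have hyq : B y q ≠ 0 := by
    intro h0
    refine hyP (h.phi_of_perp fun w hw => ?_)
    obtain ⟨s, s', e⟩ := hspan w hw
    rw [← h.isom g hg, g.apply_symm_apply, e]
    simp [hyzB, h0]
  have hqy : B q y ≠ 0 := by rw [alt_swap h.alt]; simpa using hyq
  have hzy : B z y = 0 := by rw [alt_swap h.alt, hyzB, neg_zero]
  have hzq : B z q = 0 := by rw [alt_swap h.alt, hqz, neg_zero]
  have hW : ∀ x, B x z = 0 → ∃ s s' t : F, x = s • z + s' • y + t • q := by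
    intro x hxz
    set t := B x y / B q y
    set s' := B x q / B y q
    obtain ⟨w, hw⟩ : ∃ w, w = x - t • q - s' • y := ⟨_, rfl⟩
    have hwz : B w z = 0 := by simp [hw, hxz, hqz, hyzB]
    have hwq : B w q = 0 := by
      simp [hw, h.alt q, s']; field_simp; ring
    have hwy : B w y = 0 := by
      simp [hw, h.alt y, t]; field_simp; ring
    have h0 : φ (g.symm w) a = 0 := h.phi_of_perp fun v hv => by
      obtain ⟨s, u, e⟩ := hspan v hv
      rw [← h.isom g hg, g.apply_symm_apply, e]
      simp [hwz, hwq]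
    obtain ⟨s, u, e⟩ := hspan _ (SpFourEven.mem_line_of_phi_zero h hdim ha h0)
    rw [g.apply_symm_apply] at e
    have hu : u = 0 := by
      rw [e] at hwy
      simp only [map_add, map_smul, LinearMap.add_apply, LinearMap.smul_apply, hzy, smul_eq_mul, mul_zero,
        zero_add] at hwy
      exact (mul_eq_zero.1 hwy).resolve_right hqy
    rw [hu, zero_smul, add_zero] at e
    refine ⟨s, s', t, ?_⟩
    rw [← e, hw]
    abel
  -- an element fixing `P` and moving `y`
  let A : V →ₗ[F] V :=
    g.toLinearMap ∘ₗ ((((k₀ * (φ (g.symm y) a)⁻¹) • φ.flip a).smulRight a).restrictScalars F) ∘ₗ g.symm.toLinearMap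
  have hAx : ∀ x, A x = g ((k₀ * (φ (g.symm y) a)⁻¹ * φ (g.symm x) a) • a) := fun x => rfl
  have hAmem : Has M A := by
    have h1 : Has M ((((k₀ * (φ (g.symm y) a)⁻¹) • φ.flip a).smulRight a).restrictScalars F) :=
      ⟨_, h.sp (tv h.altK a _), fun x => by
        show (tv h.altK a _).1 x = _
        rw [tv_apply]
        rfl⟩
    exact h1.conj hg
  have hAy : A y = q := by rw [hAx, inv_mul_cancel_right₀ hyP]
  have hAz : A z = 0 := by rw [hAx, hz, g.symm_apply_apply, h.altK a]; simp
  have hAq : A q = 0 := by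
    rw [hAx, hq', g.symm_apply_apply, show φ (k₀ • a) a = 0 by simp [h.altK a]]; simp
  -- an element fixing the line of `z`
  have hqzφ : φ q z ≠ 0 := fun h0 => hk₀ (SpFourEven.mem_line_of_phi_zero h hdim hz0 h0)
  let N : V →ₗ[F] V := (((φ q z)⁻¹ • φ.flip z).smulRight z).restrictScalars F
  have hNx : ∀ x, N x = ((φ q z)⁻¹ * φ x z) • z := fun x => rfl
  have hNmem : Has M N := ⟨_, h.sp (tv h.altK z (φ q z)⁻¹), fun x => by
    show (tv h.altK z _).1 x = _
    rw [tv_apply]
    rfl⟩
  have hNq : N q = z := by rw [hNx, inv_mul_cancel₀ hqzφ, one_smul]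
  have hNz : N z = 0 := by rw [hNx, h.altK z]; simp
  have hNy : N y = 0 := by
    obtain ⟨k, rfl⟩ := mem_line.1 hy
    rw [hNx, map_smul, LinearMap.smul_apply, h.altK z]; simp
  have hNs : ∀ x w, B (N x) w = B (N w) x := by
    intro x w
    simp only [hNx, h.eq, map_smul, LinearMap.smul_apply, alt_swap h.altK w z, alt_swap h.altK x z, smul_eq_mul]
    congr 1
    ring
  obtain ⟨f, hf⟩ : ∃ f, B z f = 1 := alt_exists_partner h.nondeg.1 hz0
  have hfz : B f z = -1 := by rw [alt_swap h.alt, hf]
  obtain ⟨c₁, c₂, e₀, hNf⟩ : ∃ c₁ c₂ c₃ : F, N f = c₁ • z + c₂ • y + c₃ • q :=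
    hW _ (by rw [hNs f z, hNz]; simp)
  have he₀ : e₀ = 0 := by
    have h1 := hNs f y
    rw [hNy, hNf] at h1
    simp only [map_add, map_smul, LinearMap.add_apply, LinearMap.smul_apply, hzy, h.alt y, map_zero,
      LinearMap.zero_apply, smul_eq_mul, mul_zero, zero_add] at h1
    exact (mul_eq_zero.1 h1).resolve_right hqy
  rw [he₀, zero_smul, add_zero] at hNf
  have hc₂ : c₂ * B y q = 1 := by
    have h1 := hNs f q
    rw [hNq, hNf] at h1
    simpa [hzq, hf] using h1
  -- the commutator
  obtain ⟨eA, heA, hA⟩ := hAmem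
  obtain ⟨eN, heN, hN⟩ := hNmem
  obtain ⟨eT, heT⟩ : ∃ eT, eT = eN * (eA * eN * eA⁻¹) * eN⁻¹ * (eA * eN⁻¹ * eA⁻¹) := ⟨_, rfl⟩
  have heTM : eT ∈ M := by
    rw [heT]
    exact mul_mem (mul_mem (mul_mem heN (mul_mem (mul_mem heA heN) (inv_mem heA))) (inv_mem heN))
      (mul_mem (mul_mem heA (inv_mem heN)) (inv_mem heA))
  have hAz' : eA z = z := by rw [hA, hAz, add_zero]
  have hAy' : eA y = y + q := by rw [hA, hAy]
  have hAq' : eA q = q := by rw [hA, hAq, add_zero]
  have hNz' : eN z = z := by rw [hN, hNz, add_zero]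
  have hNy' : eN y = y := by rw [hN, hNy, add_zero]
  have hNq' : eN q = q + z := by rw [hN, hNq]
  obtain ⟨G, hG⟩ : ∃ G, G = eA * eN * eA⁻¹ := ⟨_, rfl⟩
  have hGsymm : eA * eN⁻¹ * eA⁻¹ = G⁻¹ := by rw [hG]; group
  have hGe : ∀ x, G (eA x) = eA (eN x) := fun x => by
    rw [hG]; simp
  have hGz : G z = z := by have := hGe z; rwa [hAz', hNz', hAz'] at this
  have hGq : G q = q + z := by have := hGe q; rwa [hAq', hNq', map_add, hAq', hAz'] at this
  have hGy : G y = y - z := by
    have := hGe y
    rw [hAy', hNy', hAy', map_add, hGq] at this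
    exact eq_sub_of_add_eq (add_right_cancel (b := q) (by rw [← this]; abel))
  obtain ⟨s, s', t, hAf⟩ : ∃ s s' t : F, A f = s • z + s' • y + t • q := by
    refine hW _ ?_
    have h1 := h.isom eA heA f z
    rw [hAz', hA, map_add, LinearMap.add_apply] at h1
    simpa using h1
  have hs' : s' = 0 := by
    have h1 := h.isom eA heA f q
    rw [hAq', hA, hAf] at h1
    simp only [map_add, map_smul, LinearMap.add_apply, LinearMap.smul_apply, h.alt q, hzq, smul_eq_mul, mul_zero,
      zero_add, add_zero, add_eq_left] at h1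
    exact (mul_eq_zero.1 h1).resolve_right hyq
  rw [hs', zero_smul, add_zero] at hAf
  have hGf : G f = f + (c₁ - t) • z + c₂ • (y + q) := by
    have := hGe f
    rw [hA, hAf, hN f, hNf] at this
    simp only [map_add, map_smul, hGz, hGq, hA f, hAf, hAz', hAy', smul_add] at this ⊢
    linear_combination (norm := module) this
  have hT0 : ∀ x, eT (G (eN x)) = eN (G x) := fun x => by
    rw [heT, ← hG, hGsymm]; simp
  have hTz : eT z = z := by have := hT0 z; rwa [hNz', hGz, hNz'] at this
  have hTq : eT q = q := by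
    have := hT0 q
    simp only [hNq', hNz', hGq, hGz, map_add, hTz] at this
    exact add_right_cancel (add_right_cancel this)
  have hTy : eT y = y := by
    have := hT0 y
    rw [hNy', hGy, map_sub, hTz, map_sub, hNy', hNz'] at this
    exact sub_left_inj.1 this
  have hTf : eT f = f + (2 * c₂) • z := by
    have := hT0 f
    rw [hN f, hNf, hGf] at this
    simp only [map_add, map_smul, hGf, hGz, hGy, hTz, hTy, hTq, hN f, hNf, hNz', hNy', hNq', smul_add, smul_sub,
      map_sub] at this ⊢
    linear_combination (norm := module) this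
  refine ⟨z, hz0, -(2 * c₂), neg_ne_zero.2 (mul_ne_zero h2 (left_ne_zero_of_mul_eq_one hc₂)), eT, heTM, fun x => ?_⟩
  obtain ⟨a₁, a₂, a₃, hx⟩ := hW (x + B x z • f) (by simp [hfz])
  have hx' : x = a₁ • z + a₂ • y + a₃ • q - B x z • f := eq_sub_of_add_eq hx
  simp only [LinearMap.smulRight_apply, LinearMap.smul_apply, LinearMap.flip_apply, smul_eq_mul]
  conv_lhs => rw [hx']
  simp only [map_add, map_sub, map_smul, hTz, hTy, hTq, hTf]
  conv_rhs => arg 1; rw [hx']
  module

/-- A transvection along one vector gives all of them. -/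
theorem all_of_transvection (h2 : (2 : F) ≠ 0) {z : V} (hz : z ≠ 0) {c₀ : F} (hc₀ : c₀ ≠ 0)
    (hT : Has M ((c₀ • B.flip z).smulRight z)) (v : V) (c : F) : Has M ((c • B.flip v).smulRight v) := by
  have hsq : ∀ (s : F) (v : V), Has M (((s * s * c₀) • B.flip v).smulRight v) := by
    intro s v
    rcases eq_or_ne (s • v) 0 with h0 | h0
    · refine Has.zero.congr fun x => ?_
      rcases smul_eq_zero.1 h0 with rfl | rfl <;> simp
    obtain ⟨e, -, he⟩ := tv_transitive h.altK h.nondegK.1 hz h0
    refine (hT.conj (h.sp e)).congr fun x => ?_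
    obtain ⟨y, rfl⟩ := (e.1.restrictScalars F).surjective x
    have he' : (e.1.restrictScalars F) z = s • v := he
    simp only [LinearMap.comp_apply, LinearEquiv.coe_coe, LinearEquiv.symm_apply_apply, LinearMap.smulRight_apply,
      LinearMap.smul_apply, LinearMap.flip_apply, smul_eq_mul]
    rw [← h.isom _ (h.sp e) y z, (e.1.restrictScalars F).map_smul, he', map_smul, smul_eq_mul, smul_smul]
    congr 1
    ring
  set e := c / c₀ with he
  have h1 := ((hsq ((e + 1) / 2) v).add ((hsq ((e - 1) / 2) v).neg fun x => by simp [h.alt v]) fun x => by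
    simp [h.alt v])
  refine h1.congr fun x => ?_
  have hc : (e + 1) / 2 * ((e + 1) / 2) * c₀ + -((e - 1) / 2 * ((e - 1) / 2) * c₀) = c := by
    rw [he]; field_simp; ring
  rw [← hc]
  simp [add_smul, add_mul]

end CfsgLib.Classical.GeoFour.Sp
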