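import Cfsg.Agent.Lib.Classical.UnitarySubSymp

/-!
# `GU(2, q).2` is maximal in `Sp(4, q)` for odd `q ≥ 5`

Some singular line of the hermitian plane has an image with a nonsingular vector.  Either that image has a
singular vector, and two Weyl elements give a transvection there, or it splits into two orthogonal vectors,
and independent rotations separate the two factors.
-/

set_option autoImplicit false
set_option linter.unusedSectionVars false
set_option backward.isDefEq.respectTransparency false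

open Module
open CfsgLib.Classical.UnitarySubSymp (Nrm)

namespace CfsgLib.Classical.GeoFour.Sp.GU

variable {F : Type*} [Field F] [Fintype F] {V : Type*} [AddCommGroup V] [Module F V] [FiniteDimensional F V]
  {B : V →ₗ[F] V →ₗ[F] F} {J : V →ₗ[F] V} {δ : F}

/-- A skew operator whose square is a non-square scalar, in dimension four. -/
structure Data (B : V →ₗ[F] V →ₗ[F] F) (J : V →ₗ[F] V) (δ : F) : Prop where
  alt : B.IsAlt
  nondeg : B.Nondegenerate
  two : (2 : F) ≠ 0
  sq : ∀ x, J (J x) = δ • x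
  skew : ∀ x y, B (J x) y = -B x (J y)
  nsq : ¬ IsSquare δ
  dim : finrank F V = 4
  many : ∀ T : Finset F, T.card ≤ 4 → ∃ r : F, r ∉ T

variable (hD : Data B J δ)
include hD

theorem delta_ne : δ ≠ 0 := fun h => hD.nsq (h ▸ IsSquare.zero)

theorem norm_ne (a : F) {b : F} (hb : b ≠ 0) : a * a - b * b * δ ≠ 0 := fun h =>
  hD.nsq ⟨a / b, by field_simp; linear_combination -h⟩

theorem coeff_zero {v : V} {S : Submodule F V} (hS : ∀ x ∈ S, J x ∈ S) (hv : v ∉ S) {a b : F}
    (h : a • v + b • J v ∈ S) : a = 0 ∧ b = 0 := by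
  by_cases hb : b = 0
  · subst hb
    rw [zero_smul, add_zero] at h
    refine ⟨by_contra fun ha => hv ?_, rfl⟩
    simpa [smul_smul, inv_mul_cancel₀ ha] using S.smul_mem a⁻¹ h
  exfalso
  have h1 := hS _ h
  rw [map_add, map_smul, map_smul, hD.sq] at h1
  have h2 := S.sub_mem (S.smul_mem a h) (S.smul_mem b h1)
  have e : a • (a • v + b • J v) - b • (a • J v + b • δ • v) = (a * a - b * b * δ) • v := by module
  rw [e] at h2
  apply hv
  simpa [smul_smul, inv_mul_cancel₀ (norm_ne hD a hb)] using S.smul_mem (a * a - b * b * δ)⁻¹ h2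

omit [Fintype F] in
theorem span_inv (u : V) : ∀ x ∈ Submodule.span F {u, J u}, J x ∈ Submodule.span F {u, J u} := by
  intro x hx
  obtain ⟨a, b, rfl⟩ := Submodule.mem_span_pair.1 hx
  exact Submodule.mem_span_pair.2 ⟨b * δ, a, by rw [map_add, map_smul, map_smul, hD.sq, smul_smul, add_comm]⟩

theorem exists_dual {S : Submodule F V} {v : V} (hv : v ∉ S) :
    ∃ z, (∀ s ∈ S, B s z = 0) ∧ B v z = 1 := by
  obtain ⟨φ, hφv, hφS⟩ := Submodule.exists_dual_map_eq_bot_of_notMem hv inferInstance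
  have hN : LinearMap.BilinForm.Nondegenerate B := hD.nondeg
  obtain ⟨z, hz⟩ : ∃ z, ∀ s, B z s = φ s := ⟨(LinearMap.BilinForm.toDual B hN).symm φ, fun s =>
    LinearMap.BilinForm.apply_toDual_symm_apply φ s⟩
  refine ⟨(-(φ v)⁻¹) • z, fun s hs => ?_, ?_⟩
  · have : φ s ∈ S.map φ := ⟨s, hs, rfl⟩
    rw [hφS, Submodule.mem_bot] at this
    rw [map_smul, alt_swap hD.alt, hz, this, neg_zero, smul_zero]
  · rw [map_smul, alt_swap hD.alt, hz, smul_eq_mul]
    field_simp

/-- Vectors with prescribed pairings on one line over the quadratic extension. -/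
theorem exists_two {S : Submodule F V} (hS : ∀ x ∈ S, J x ∈ S) {v : V} (hv : v ∉ S) (a b : F) :
    ∃ z, (∀ s ∈ S, B s z = 0) ∧ B v z = a ∧ B (J v) z = b := by
  have h1 : v ∉ S ⊔ (F ∙ J v) := fun h => by
    obtain ⟨s, hs, x, hx, e⟩ := Submodule.mem_sup.1 h
    obtain ⟨c, rfl⟩ := Submodule.mem_span_singleton.1 hx
    have := coeff_zero hD hS hv (a := 1) (b := -c) (by
      rw [show (1 : F) • v + (-c) • J v = s by linear_combination (norm := module) -e]; exact hs)
    exact one_ne_zero this.1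
  have h2 : J v ∉ S ⊔ (F ∙ v) := fun h => by
    obtain ⟨s, hs, x, hx, e⟩ := Submodule.mem_sup.1 h
    obtain ⟨c, rfl⟩ := Submodule.mem_span_singleton.1 hx
    have := coeff_zero hD hS hv (a := -c) (b := 1) (by
      rw [show (-c) • v + (1 : F) • J v = s by linear_combination (norm := module) -e]; exact hs)
    exact one_ne_zero this.2
  obtain ⟨z₁, hz₁, hv₁⟩ := exists_dual hD h1
  obtain ⟨z₂, hz₂, hv₂⟩ := exists_dual hD h2
  refine ⟨a • z₁ + b • z₂, fun s hs => ?_, ?_, ?_⟩
  · simp [hz₁ s (Submodule.mem_sup_left hs), hz₂ s (Submodule.mem_sup_left hs)]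
  · simp [hv₁, hz₂ v (Submodule.mem_sup_right (Submodule.mem_span_singleton_self v))]
  · simp [hv₂, hz₁ (J v) (Submodule.mem_sup_right (Submodule.mem_span_singleton_self _))]

/-- The norm of the quadratic extension is surjective. -/
theorem exists_norm (c : F) : ∃ p r : F, p * p - δ * (r * r) = c := by
  obtain ⟨a, b, h⟩ := FiniteField.exists_root_sum_quadratic (f := Polynomial.X ^ 2 - Polynomial.C c)
    (g := Polynomial.C (-δ) * Polynomial.X ^ 2) (Polynomial.degree_X_pow_sub_C (by norm_num) c)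
    (Polynomial.degree_C_mul_X_pow 2 (neg_ne_zero.2 (delta_ne hD)))
    (FiniteField.odd_card_of_char_ne_two fun h => hD.two (by
      haveI := ringChar.of_eq h
      exact CharTwo.two_eq_zero))
  exact ⟨a, b, by simp at h; linear_combination h⟩

theorem jpol_symm (x y : V) : B x (J y) = B y (J x) := by
  rw [alt_swap hD.alt, hD.skew, neg_neg]

/-- An isotropic vector in `y₀ + S^⊥`, unless `S^⊥` is totally isotropic and orthogonal to `y₀`. -/
theorem exists_iso {S : Submodule F V} (hS : ∀ x ∈ S, J x ∈ S) (y₀ : V)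
    (h : LinearMap.BilinForm.orthogonal B S ≤ S → y₀ ∈ S → False) :
    ∃ y, B y (J y) = 0 ∧ ∀ s ∈ S, B s y = B s y₀ := by
  have hN : LinearMap.BilinForm.Nondegenerate B := hD.nondeg
  have hrefl : LinearMap.BilinForm.IsRefl B := fun x y h => by rw [alt_swap hD.alt, h, neg_zero]
  set Z := LinearMap.BilinForm.orthogonal B S
  have hZJ : ∀ z ∈ Z, J z ∈ Z := fun z hz s hs => by
    show B s (J z) = 0
    have h := hz (J s) (hS s hs)
    change B (J s) z = 0 at h
    rw [hD.skew, neg_eq_zero] at h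
    exact h
  have h2 := hD.two
  have hδ := delta_ne hD
  by_cases hall : ∀ n ∈ Z, B n (J n) = 0 ∧ B y₀ (J n) = 0 ∧ B y₀ n = 0
  · refine absurd ?_ (fun hy => h ?_ hy)
    · rw [← LinearMap.BilinForm.orthogonal_orthogonal hN hrefl S]
      intro n hn
      show B n y₀ = 0
      rw [alt_swap hD.alt, (hall n hn).2.2, neg_zero]
    · have hpol : ∀ n ∈ Z, ∀ m ∈ Z, B n (J m) = 0 := fun n hn m hm => by
        have e := (hall (n + m) (add_mem hn hm)).1
        simp only [map_add, LinearMap.add_apply, (hall n hn).1, (hall m hm).1, zero_add, add_zero,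
          jpol_symm hD m n] at e
        exact (mul_eq_zero.1 (show (2 : F) * B n (J m) = 0 by linear_combination e)).resolve_left h2
      intro m hm
      rw [← LinearMap.BilinForm.orthogonal_orthogonal hN hrefl S]
      intro n hn
      show B n m = 0
      have e := hpol n hn (J m) (hZJ m hm)
      rw [hD.sq, map_smul, smul_eq_mul] at e
      exact (mul_eq_zero.1 e).resolve_left hδ
  · push Not at hall
    obtain ⟨n, hn, hne⟩ := hall
    have hQ : ∀ p r : F, B (y₀ + p • n + r • J n) (J (y₀ + p • n + r • J n)) =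
        B y₀ (J y₀) + 2 * p * B y₀ (J n) + 2 * r * δ * B y₀ n + (p * p - δ * (r * r)) * B n (J n) := by
      intro p r
      have e1 : B n (J y₀) = B y₀ (J n) := jpol_symm hD n y₀
      have e2 : B (J n) (J y₀) = δ * B y₀ n := by
        rw [hD.skew, hD.sq, map_smul, smul_eq_mul, alt_swap hD.alt n y₀]; ring
      have e3 : B (J n) n = -B n (J n) := hD.skew n n
      simp only [map_add, map_smul, LinearMap.add_apply, LinearMap.smul_apply, smul_eq_mul, hD.sq, e1, e2, e3,
        hD.alt n, hD.alt (J n), mul_zero, add_zero]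
      ring
    obtain ⟨p, r, hpr⟩ : ∃ p r : F, B (y₀ + p • n + r • J n) (J (y₀ + p • n + r • J n)) = 0 := by
      simp only [hQ]
      by_cases hN0 : B n (J n) = 0
      · simp only [hN0, mul_zero, add_zero]
        by_cases ha : B y₀ (J n) = 0
        · have hb := hne hN0 ha
          exact ⟨0, -B y₀ (J y₀) / (2 * δ * B y₀ n), by field_simp; ring⟩
        · exact ⟨-B y₀ (J y₀) / (2 * B y₀ (J n)), 0, by field_simp; ring⟩
      · obtain ⟨p, r, h⟩ := exists_norm hD (((B y₀ (J n)) ^ 2 - δ * (B y₀ n) ^ 2) / (B n (J n)) ^ 2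
          - B y₀ (J y₀) / B n (J n))
        refine ⟨p - B y₀ (J n) / B n (J n), r + B y₀ n / B n (J n), ?_⟩
        field_simp at h ⊢
        linear_combination h
    refine ⟨_, hpr, fun s hs => ?_⟩
    rw [map_add, map_add, map_smul, map_smul, show B s n = 0 from hn s hs,
      show B s (J n) = 0 from hZJ n hn s hs, smul_zero, smul_zero, add_zero, add_zero]

theorem finrank_line_le (u : V) : finrank F (Submodule.span F {u, J u}) ≤ 2 := by
  classical
  have h5 := finrank_span_finset_le_card (R := F) ({u, J u} : Finset V)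
  have h6 := Finset.card_le_two (a := u) (b := J u)
  rw [Finset.coe_pair, Set.finrank] at h5
  omega

/-- Isotropic vectors with prescribed pairings on one line over the quadratic extension. -/
theorem exists_iso_two {u : V} (hu : u ≠ 0) (a b : F) :
    ∃ z, B z (J z) = 0 ∧ B u z = a ∧ B (J u) z = b := by
  by_cases hab : a = 0 ∧ b = 0
  · exact ⟨0, by simp, by simp [hab.1], by simp [hab.2]⟩
  obtain ⟨y₀, -, h1, h2⟩ := exists_two hD (S := ⊥) (by simp) (v := u) (by simpa using hu) a b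
  obtain ⟨y, hy, hval⟩ := exists_iso hD (span_inv hD u) y₀ (fun hle hy0 => by
    have h3 := finrank_line_le hD u
    have e := LinearMap.BilinForm.finrank_orthogonal (B := B) hD.nondeg (Submodule.span F {u, J u})
    have hmem : y₀ ∈ LinearMap.BilinForm.orthogonal B (Submodule.span F {u, J u}) := by
      rw [Submodule.eq_of_le_of_finrank_le hle (by rw [hD.dim] at e; omega)]; exact hy0
    exact hab ⟨h1.symm.trans (hmem u (Submodule.subset_span (by simp))),
      h2.symm.trans (hmem (J u) (Submodule.subset_span (by simp)))⟩)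
  exact ⟨y, hy, by rw [hval u (Submodule.subset_span (by simp))]; exact h1,
    by rw [hval (J u) (Submodule.subset_span (by simp))]; exact h2⟩

theorem finrank_line {u : V} (hu : u ≠ 0) : finrank F (Submodule.span F {u, J u}) = 2 := by
  have hli : LinearIndependent F ![u, J u] := by
    rw [LinearIndependent.pair_iff]
    intro a b hab
    exact coeff_zero hD (S := ⊥) (by simp) (by simpa using hu) (by rw [Submodule.mem_bot]; exact hab)
  have := finrank_span_eq_card hli
  rw [show Set.range ![u, J u] = {u, J u} by simp [Matrix.range_cons, Matrix.range_empty, Set.pair_comm]] at this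
  simpa using this

/-- A singular line is its own perpendicular. -/
theorem mem_line_of_perp {e z : V} (he : e ≠ 0) (hee : B e (J e) = 0) (h1 : B e z = 0) (h2 : B (J e) z = 0) :
    z ∈ Submodule.span F {e, J e} := by
  have hle : Submodule.span F {e, J e} ≤ LinearMap.BilinForm.orthogonal B (Submodule.span F {e, J e}) := by
    intro x hx s hs
    obtain ⟨a, b, rfl⟩ := Submodule.mem_span_pair.1 hx
    obtain ⟨a', b', rfl⟩ := Submodule.mem_span_pair.1 hs
    show B _ _ = 0
    simp [hD.alt e, hD.alt (J e), hee, alt_swap hD.alt (J e) e]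
  have e' := LinearMap.BilinForm.finrank_orthogonal (B := B) hD.nondeg (Submodule.span F {e, J e})
  have hfl := finrank_line hD he
  rw [Submodule.eq_of_le_of_finrank_le hle (by rw [hD.dim] at e'; omega)]
  intro s hs
  obtain ⟨a', b', rfl⟩ := Submodule.mem_span_pair.1 hs
  show B _ _ = 0
  simp [h1, h2]

omit hD in
/-- A hyperbolic basis of the hermitian plane. -/
def Frame (B : V →ₗ[F] V →ₗ[F] F) (J : V →ₗ[F] V) (e f : V) : Prop :=
  B e (J e) = 0 ∧ B f (J f) = 0 ∧ B e f = 1 ∧ B (J e) f = 0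

theorem exists_frame {e : V} (he : B e (J e) = 0) (he0 : e ≠ 0) : ∃ f, Frame B J e f := by
  obtain ⟨f, h1, h2, h3⟩ := exists_iso_two hD he0 1 0
  exact ⟨f, he, h1, h2, h3⟩

theorem frame_values {e f : V} (h : Frame B J e f) :
    B f e = -1 ∧ B e (J f) = 0 ∧ B (J f) e = 0 ∧ B f (J e) = 0 ∧ B (J e) (J f) = -δ ∧ B (J f) (J e) = δ ∧
      B (J e) e = 0 ∧ B (J f) f = 0 := by
  obtain ⟨h1, h2, h3, h4⟩ := h
  have k1 : B e (J f) = 0 := by rw [hD.skew, neg_eq_zero] at h4; exact h4
  have k2 : B (J e) (J f) = -δ := by rw [hD.skew, hD.sq, map_smul, h3, smul_eq_mul, mul_one]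
  exact ⟨by rw [alt_swap hD.alt, h3], k1, by rw [alt_swap hD.alt, k1, neg_zero],
    by rw [alt_swap hD.alt, h4, neg_zero], k2, by rw [alt_swap hD.alt, k2, neg_neg],
    by rw [alt_swap hD.alt, h1, neg_zero], by rw [alt_swap hD.alt, h2, neg_zero]⟩

theorem frame_decomp {e f : V} (h : Frame B J e f) (v : V) :
    v = (-B f v) • e + (B (J f) v / δ) • J e + B e v • f + (-(B (J e) v / δ)) • J f := by
  obtain ⟨k1, k2, k3, k4, k5, k6, k7, k8⟩ := frame_values hD h
  obtain ⟨h1, h2, h3, h4⟩ := h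
  have hδ := delta_ne hD
  obtain ⟨z, hz⟩ : ∃ z, z = v - ((-B f v) • e + (B (J f) v / δ) • J e + B e v • f + (-(B (J e) v / δ)) • J f) :=
    ⟨_, rfl⟩
  have z1 : B e z = 0 := by
    simp only [hz, map_sub, map_add, map_smul, smul_eq_mul, hD.alt e, h1, h3, k2]; ring
  have z2 : B (J e) z = 0 := by
    simp only [hz, map_sub, map_add, map_smul, smul_eq_mul, k7, hD.alt (J e), h4, k5]; field_simp; ring
  have z3 : B f z = 0 := by
    simp only [hz, map_sub, map_add, map_smul, smul_eq_mul, k1, k4, hD.alt f, h2]; ring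
  have z4 : B (J f) z = 0 := by
    simp only [hz, map_sub, map_add, map_smul, smul_eq_mul, k3, k6, k8, hD.alt (J f)]; field_simp; ring
  have he0 : e ≠ 0 := fun e' => by rw [e'] at h3; simp at h3
  obtain ⟨a, b, hab⟩ := Submodule.mem_span_pair.1 (mem_line_of_perp hD he0 h1 z1 z2)
  rw [← hab, map_add, map_smul, map_smul, k1, k4, smul_eq_mul, smul_eq_mul] at z3
  rw [← hab, map_add, map_smul, map_smul, k3, k6, smul_eq_mul, smul_eq_mul] at z4
  have ha : a = 0 := by linear_combination -z3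
  have hb : b = 0 := (mul_eq_zero.1 (show b * δ = 0 by linear_combination z4)).resolve_right hδ
  rw [ha, hb, zero_smul, zero_smul, add_zero] at hab
  exact sub_eq_zero.1 (hz ▸ hab.symm)

/-- The normaliser is transitive on hyperbolic bases. -/
theorem exists_frame_map {e f e' f' : V} (h : Frame B J e f) (h' : Frame B J e' f') :
    ∃ g : isomGroup B, Nrm J g ∧ g.1 e = e' := by
  haveI : Finite V := Module.finite_of_finite F
  obtain ⟨k1, k2, k3, k4, k5, k6, k7, k8⟩ := frame_values hD h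
  obtain ⟨l1, l2, l3, l4, l5, l6, l7, l8⟩ := frame_values hD h'
  obtain ⟨m1, m2, m3, m4⟩ := h'
  have hδ := delta_ne hD
  set T : V →ₗ[F] V := (-(B f)).smulRight e' + (δ⁻¹ • B (J f)).smulRight (J e') + (B e).smulRight f' +
    (-(δ⁻¹ • B (J e))).smulRight (J f') with hT
  have hTv : ∀ v, T v = (-B f v) • e' + (B (J f) v / δ) • J e' + B e v • f' + (-(B (J e) v / δ)) • J f' := fun v => by
    simp [hT, div_eq_inv_mul]
  have hpres : ∀ x y, B (T x) (T y) = B x y := fun x y => by
    conv_rhs => rw [frame_decomp hD h x, frame_decomp hD h y]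
    obtain ⟨h1, h2, h3, h4⟩ := h
    simp only [hTv, map_add, map_smul, LinearMap.add_apply, LinearMap.smul_apply, smul_eq_mul, hD.alt e, hD.alt f,
      hD.alt (J e), hD.alt (J f), h1, h2, h3, h4, k1, k2, k3, k4, k5, k6, k7, k8, hD.alt e', hD.alt f',
      hD.alt (J e'), hD.alt (J f'), m1, m2, m3, m4, l1, l2, l3, l4, l5, l6, l7, l8]
  have hinj : Function.Injective T := by
    rw [injective_iff_map_eq_zero]
    intro x hx
    exact hD.nondeg.1 x fun y => by rw [← hpres, hx, map_zero, LinearMap.zero_apply]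
  refine ⟨⟨LinearEquiv.ofInjectiveEndo T hinj, fun x y => hpres x y⟩, Or.inl fun x => ?_, ?_⟩
  · show T (J x) = J (T x)
    have a1 : B f (J x) = -B (J f) x := by rw [hD.skew, neg_neg]
    have a2 : B (J f) (J x) = -(δ * B f x) := by rw [hD.skew, hD.sq, map_smul, smul_eq_mul]
    have a3 : B e (J x) = -B (J e) x := by rw [hD.skew, neg_neg]
    have a4 : B (J e) (J x) = -(δ * B e x) := by rw [hD.skew, hD.sq, map_smul, smul_eq_mul]
    simp only [hTv, map_add, map_smul, hD.sq, a1, a2, a3, a4, smul_smul]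
    match_scalars <;> field_simp
  · show T e = e'
    rw [hTv, k1, k3, hD.alt e, k7]
    simp

/-- A rotation of one non-singular line. -/
theorem exists_rot {e : V} (he : B e (J e) ≠ 0) {p r : F} (hpr : p * p - δ * (r * r) = 1) :
    ∃ g : isomGroup B, Nrm J g ∧ g.1 e = p • e + r • J e ∧
      ∀ v, B v e = 0 → B v (J e) = 0 → g.1 v = v := by
  haveI : Finite V := Module.finite_of_finite F
  set A := B e (J e) with hAd
  have hje : B (J e) e = -A := by rw [alt_swap hD.alt]
  set T : V →ₗ[F] V := LinearMap.id + (((p - 1) / A) • B.flip (J e) - (r * δ / A) • B.flip e).smulRight e +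
    ((r / A) • B.flip (J e) - ((p - 1) / A) • B.flip e).smulRight (J e) with hT
  have hTv : ∀ v, T v = v + ((p - 1) / A * B v (J e) - r * δ / A * B v e) • e +
      (r / A * B v (J e) - (p - 1) / A * B v e) • J e := fun v => by simp [hT]
  have hpres : ∀ x y, B (T x) (T y) = B x y := fun x y => by
    simp only [hTv, map_add, map_smul, LinearMap.add_apply, LinearMap.smul_apply, smul_eq_mul, hD.alt e,
      hD.alt (J e), ← hAd, hje, alt_swap hD.alt e y, alt_swap hD.alt (J e) y]
    field_simp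
    linear_combination (A * (B x (J e) * -B y e + B x e * B y (J e))) * hpr
  have hinj : Function.Injective T := by
    rw [injective_iff_map_eq_zero]
    intro x hx
    exact hD.nondeg.1 x fun y => by rw [← hpres, hx, map_zero, LinearMap.zero_apply]
  refine ⟨⟨LinearEquiv.ofInjectiveEndo T hinj, fun x y => hpres x y⟩, Or.inl fun x => ?_, ?_, fun v h1 h2 => ?_⟩
  · show T (J x) = J (T x)
    have a1 : B (J x) (J e) = -(δ * B x e) := by rw [hD.skew, hD.sq, map_smul, smul_eq_mul]
    simp only [hTv, map_add, map_smul, hD.sq, a1, hD.skew x e, smul_smul]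
    match_scalars <;> ring
  · show T e = _
    rw [hTv, hD.alt e, ← hAd]
    match_scalars <;> field_simp <;> ring
  · show T v = v
    rw [hTv, h1, h2]
    simp

/-- Every vector is isotropic or the sum of two non-orthogonal isotropic vectors. -/
theorem iso_or_sum (v : V) :
    B v (J v) = 0 ∨ ∃ u, B u (J u) = 0 ∧ B (v - u) (J (v - u)) = 0 ∧ B (v - u) u ≠ 0 := by
  by_cases h : B v (J v) = 0
  · exact Or.inl h
  right
  have hv : v ≠ 0 := fun e => h (by rw [e]; simp)
  obtain ⟨u, hu, h1, h2⟩ := exists_iso_two hD hv 1 (-(B v (J v)) / 2)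
  refine ⟨u, hu, ?_, ?_⟩
  · have hvu : B v (J u) = B v (J v) / 2 := by
      have := hD.skew v u
      rw [h2] at this
      linear_combination this
    have huv : B u (J v) = B v (J u) := by rw [alt_swap hD.alt, hD.skew, neg_neg]
    simp only [map_sub, LinearMap.sub_apply, hu, huv, hvu]
    field_simp [hD.two]
    ring
  · rw [map_sub, LinearMap.sub_apply, hD.alt u, sub_zero, h1]; exact one_ne_zero

/-- The product of transvections along an isotropic line. -/
def lineTv (v : V) (b : F) : isomGroup B := tv hD.alt v (-δ * b) * tv hD.alt (J v) b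

theorem lineTv_apply {v : V} (hv : B v (J v) = 0) (b : F) (x : V) :
    (lineTv hD v b).1 x = x + (-δ * b * B x v) • v + (b * B x (J v)) • J v := by
  have h : B (J v) v = 0 := by rw [alt_swap hD.alt, hv, neg_zero]
  show (tv hD.alt v (-δ * b)).1 ((tv hD.alt (J v) b).1 x) = _
  simp only [tv_apply, map_add, map_smul, LinearMap.add_apply, LinearMap.smul_apply, h, smul_eq_mul, mul_zero,
    add_zero, zero_smul]

theorem lineTv_nrm {v : V} (hv : B v (J v) = 0) (b : F) : Nrm J (lineTv hD v b) := by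
  left
  intro x
  rw [lineTv_apply hD hv, lineTv_apply hD hv, map_add, map_add, map_smul, map_smul, hD.sq]
  have h1 : B (J x) v = -B x (J v) := hD.skew x v
  have h2 : B (J x) (J v) = -(δ * B x v) := by rw [hD.skew, hD.sq, map_smul, smul_eq_mul]
  rw [h1, h2]
  module

variable {M : Subgroup (isomGroup B)}

/-- An element outside the normaliser moves a singular vector to a non-singular one. -/
theorem exists_moved {g : isomGroup B} (hg : ¬ Nrm J g) :
    ∃ v, B v (J v) = 0 ∧ B (g.1 v) (J (g.1 v)) ≠ 0 := by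
  by_contra hall
  push Not at hall
  apply hg
  obtain ⟨u, hu⟩ : ∃ u : V, u ≠ 0 := by
    haveI : Nontrivial V := Module.nontrivial_of_finrank_pos (R := F) (by rw [hD.dim]; norm_num)
    exact exists_ne 0
  obtain ⟨e, he, hue, -⟩ := exists_iso_two hD hu 1 0
  have he0 : e ≠ 0 := fun e' => by rw [e', map_zero] at hue; exact zero_ne_one hue
  obtain ⟨f, hfr⟩ := exists_frame hD he he0
  obtain ⟨k1, k2, k3, k4, k5, k6, k7, k8⟩ := frame_values hD hfr
  obtain ⟨h1, h2, h3, h4⟩ := hfr
  have hδ := delta_ne hD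
  let R : V → V → F := fun x y => B (g.1 x) (J (g.1 y))
  have hR : ∀ x, B x (J x) = 0 → R x x = 0 := hall
  have hsym : ∀ x y, R x y = R y x := fun x y => jpol_symm hD _ _
  have hadd : ∀ x y, R (x + y) (x + y) = R x x + R y y + 2 * R x y := fun x y => by
    have := hsym x y
    simp only [R, map_add, LinearMap.add_apply] at this ⊢
    linear_combination -this
  have hpair : ∀ x y, B x (J x) = 0 → B y (J y) = 0 → B x (J y) = 0 → R x y = 0 := fun x y hx hy hxy => by
    have e1 := hR (x + y) (by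
      simp only [map_add, LinearMap.add_apply, hx, hy, hxy, jpol_symm hD y x]; ring)
    rw [hadd, hR x hx, hR y hy, zero_add, zero_add] at e1
    exact (mul_eq_zero.1 e1).resolve_left hD.two
  have hje : B (J e) (J (J e)) = 0 := by rw [hD.sq, map_smul, k7, smul_zero]
  have hjf : B (J f) (J (J f)) = 0 := by rw [hD.sq, map_smul, k8, smul_zero]
  have ree : R e (J e) = 0 := hpair e (J e) h1 hje (by rw [hD.sq, map_smul, hD.alt e, smul_zero])
  have rff : R f (J f) = 0 := hpair f (J f) h2 hjf (by rw [hD.sq, map_smul, hD.alt f, smul_zero])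
  have c11 : R e f = 0 := hpair e f h1 h2 k2
  have c22 : R (J e) (J f) = 0 := hpair _ _ hje hjf (by rw [hD.sq, map_smul, h4, smul_zero])
  have c12 : R e (J f) + R (J e) f = 0 := by
    have := hpair (e + J e) (f + J f)
      (by simp only [map_add, LinearMap.add_apply, h1, hje, hD.sq, map_smul, hD.alt e, hD.alt (J e), k7, smul_eq_mul]; ring)
      (by simp only [map_add, LinearMap.add_apply, h2, hjf, hD.sq, map_smul, hD.alt f, hD.alt (J f), k8, smul_eq_mul]; ring)
      (by simp only [map_add, LinearMap.add_apply, hD.sq, map_smul, k2, h3, h4, k5, smul_eq_mul]; ring)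
    simp only [R, map_add, LinearMap.add_apply] at this c11 c22 ⊢
    linear_combination this - c11 - c22
  obtain ⟨μ, hμ⟩ : ∃ μ, μ = R e (J f) / δ := ⟨_, rfl⟩
  have hμe : R e (J f) = μ * δ := by rw [hμ, div_mul_cancel₀ _ hδ]
  have hμe' : R (J e) f = -(μ * δ) := by linear_combination c12 - hμe
  have hRμ : ∀ x y, R x y = μ * B x (J y) := fun x y => by
    have hd : ∀ z, z = _ := fun z => frame_decomp hD ⟨h1, h2, h3, h4⟩ z
    rw [hd x, hd y]
    have q : ∀ z, B z (J z) = 0 → B (g.1 z) (J (g.1 z)) = 0 := hall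
    simp only [R] at ree rff c11 c22 hμe hμe'
    simp only [R, map_add, map_smul, LinearMap.add_apply, LinearMap.smul_apply, smul_eq_mul, hD.sq, h1, h2, h3, h4,
      k1, k2, k3, k4, k5, k6, k7, k8, hD.alt e, hD.alt f, hD.alt (J e), hD.alt (J f), q e h1, q f h2, q _ hje,
      q _ hjf, ree, rff, c11, c22, hμe, hμe', jpol_symm hD (g.1 (J e)) (g.1 e), jpol_symm hD (g.1 (J f)) (g.1 f),
      jpol_symm hD (g.1 f) (g.1 e), jpol_symm hD (g.1 (J f)) (g.1 (J e)), jpol_symm hD (g.1 (J f)) (g.1 e),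
      jpol_symm hD (g.1 f) (g.1 (J e))]
    ring
  have hA : ∀ y, J (g.1 y) = μ • g.1 (J y) := fun y => by
    rw [← sub_eq_zero]
    refine hD.nondeg.2 _ fun z => ?_
    obtain ⟨x, rfl⟩ := g.1.surjective z
    rw [map_sub, map_smul, g.2, smul_eq_mul, sub_eq_zero]
    exact hRμ x y
  have hμ2 : μ * μ = 1 := by
    have e1 := hA e
    have e2 := congrArg J e1
    rw [hD.sq, map_smul, hA, hD.sq, map_smul, smul_smul, smul_smul] at e2
    have hge : g.1 e ≠ 0 := fun e' => he0 (g.1.map_eq_zero_iff.1 e')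
    have e3 := smul_left_injective F hge e2
    exact mul_right_cancel₀ hδ (by linear_combination -e3)
  rcases mul_self_eq_one_iff.1 hμ2 with h | h
  · left; intro x; rw [hA, h, one_smul]
  · right; intro x; rw [hA, h, neg_one_smul, neg_neg]

/-- Full root groups. -/
def Root (M : Subgroup (isomGroup B)) (v : V) : Prop := ∀ c, tv hD.alt v c ∈ M

theorem root_smul {v : V} (h : Root hD M v) (a : F) : Root hD M (a • v) := fun c => by
  rw [tv_smul]; exact h _

theorem root_line {u v : V} (hu : Root hD M u) (hv : Root hD M v) (huv : B v u ≠ 0) (t : F) :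
    Root hD M (v + t • u) := fun c => by
  have h := M.mul_mem (M.mul_mem (hu (t / B v u)) (hv c)) (M.inv_mem (hu (t / B v u)))
  rwa [conj_tv, tv_apply, div_mul_cancel₀ _ huv] at h

variable (hM : ∀ g, Nrm J g → g ∈ M)
include hM

theorem root_move {q y : V} (hq : Root hD M q) (hy : B y (J y) = 0) (h1 : B q (J y) = 0) (h2 : B q y ≠ 0) :
    Root hD M y := by
  have hline : ∀ t, Root hD M (q + t • y) := fun t c => by
    have hT := hM _ (lineTv_nrm hD hy (-(t / (δ * B q y))))
    have h := M.mul_mem (M.mul_mem hT (hq c)) (M.inv_mem hT)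
    rw [conj_tv, lineTv_apply hD hy, h1, mul_zero, zero_smul, add_zero] at h
    rwa [show -δ * -(t / (δ * B q y)) * B q y = t by field_simp [delta_ne hD]] at h
  have h := root_line hD (u := q) (v := q + (1 : F) • y) hq (hline 1) (by
    rw [map_add, LinearMap.add_apply, hD.alt q, zero_add, one_smul, alt_swap hD.alt]
    exact neg_ne_zero.2 h2) (-1)
  rwa [show q + (1 : F) • y + (-1 : F) • q = y by module] at h

theorem exists_unit : ∃ l : F, l ≠ 0 ∧ l * l ≠ 1 := by
  classical
  obtain ⟨r, hr⟩ := hD.many {0, 1, -1} (le_trans Finset.card_le_three (by norm_num))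
  simp only [Finset.mem_insert, Finset.mem_singleton, not_or] at hr
  exact ⟨r, hr.1, fun e => (mul_self_eq_one_iff.1 e).elim hr.2.1 hr.2.2⟩

/-- A singular vector in the image of a singular line, the image not being a line. -/
theorem root_of_singular {z q : V} (hz : z ≠ 0) (hzz : B z (J z) = 0) (hzq : B z q = 0) (hs : B (J z) q ≠ 0)
    (hT : ∀ d, tv hD.alt z (-δ * d) * tv hD.alt q d ∈ M) : Root hD M z := by
  classical
  obtain ⟨s, hsd⟩ : ∃ s, s = B (J z) q := ⟨_, rfl⟩
  rw [← hsd] at hs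
  have hJz : B (J z) z = 0 := by rw [alt_swap hD.alt, hzz, neg_zero]
  have hqz : B q z = 0 := by rw [alt_swap hD.alt, hzq, neg_zero]
  have hqJ : B q (J z) = -s := by rw [alt_swap hD.alt, ← hsd]
  have hW : ∀ b : F, b ≠ 0 → ∃ n ∈ M, ∀ v, n.1 v = v + (-2 * δ * (2 * b + (b * s * s)⁻¹) * B v z) • z +
      (-2 / s * B v q) • J z + (2 / s * B v (J z)) • q := by
    intro b hb
    obtain ⟨n, hn⟩ : ∃ n, n = lineTv hD z b * (tv hD.alt z (-δ * (b * s * s)⁻¹) * tv hD.alt q (b * s * s)⁻¹) *
        lineTv hD z b := ⟨_, rfl⟩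
    have hnM : n ∈ M := hn ▸ M.mul_mem (M.mul_mem (hM _ (lineTv_nrm hD hzz b)) (hT _)) (hM _ (lineTv_nrm hD hzz b))
    have hnv : ∀ v, n.1 v = v + (-δ * (2 * b + (b * s * s)⁻¹) * B v z) • z + (b * B v (J z) - B v q / s) • J z +
        ((b * s * s)⁻¹ * B v q + B v (J z) / s) • q := fun v => by
      rw [hn]
      show (lineTv hD z b).1 ((tv hD.alt z _).1 ((tv hD.alt q _).1 ((lineTv hD z b).1 v))) = _
      simp only [lineTv_apply hD hzz, tv_apply, map_add, map_smul, LinearMap.add_apply, LinearMap.smul_apply,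
        smul_eq_mul, hD.alt z, hD.alt (J z), hD.alt q, hzz, hJz, hqz, hzq, hqJ, ← hsd, mul_zero, add_zero, zero_add]
      match_scalars <;> field_simp <;> ring
    refine ⟨n * n, M.mul_mem hnM hnM, fun v => ?_⟩
    show n.1 (n.1 v) = _
    rw [hnv (n.1 v), hnv v]
    simp only [map_add, map_smul, LinearMap.add_apply, LinearMap.smul_apply, smul_eq_mul, hD.alt z, hD.alt (J z),
      hD.alt q, hzz, hJz, hqz, hzq, hqJ, ← hsd, mul_zero, add_zero, zero_add]
    match_scalars <;> field_simp <;> ring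
  obtain ⟨b, hb⟩ := hD.many {0, 1, (2 * s * s)⁻¹} (le_trans Finset.card_le_three (by norm_num))
  simp only [Finset.mem_insert, Finset.mem_singleton, not_or] at hb
  obtain ⟨hb0, hb1, hb2⟩ := hb
  obtain ⟨n, hn, hnv⟩ := hW b hb0
  obtain ⟨n', hn', hn'v⟩ := hW 1 one_ne_zero
  obtain ⟨c, hcd⟩ : ∃ c, c = -2 * δ * ((2 * b + (b * s * s)⁻¹) - (2 + (s * s)⁻¹)) := ⟨_, rfl⟩
  have h2 := hD.two
  have hc : c ≠ 0 := by
    rw [hcd]
    refine mul_ne_zero (mul_ne_zero (neg_ne_zero.2 h2) (delta_ne hD)) fun e => ?_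
    have : (b - 1) * (2 * s * s * b - 1) = 0 := by field_simp at e; linear_combination e
    rcases mul_eq_zero.1 this with h | h
    · exact hb1 (sub_eq_zero.1 h)
    · exact hb2 (eq_inv_of_mul_eq_one_left (by linear_combination h))
  have hcM : tv hD.alt z c ∈ M := by
    have e : tv hD.alt z c * n' = n := Subtype.ext (LinearEquiv.ext fun v => by
      show (tv hD.alt z c).1 (n'.1 v) = n.1 v
      rw [tv_apply, hnv, hn'v]
      simp only [map_add, map_smul, LinearMap.add_apply, LinearMap.smul_apply, smul_eq_mul, hD.alt z, hJz, hqz,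
        mul_zero, add_zero, hcd, one_mul]
      module)
    rw [eq_mul_inv_of_mul_eq e]
    exact M.mul_mem hn (M.inv_mem hn')
  obtain ⟨f, hf⟩ := exists_frame hD hzz hz
  have hsq : ∀ t : F, tv hD.alt z (t * t * c) ∈ M := fun t => by
    rcases eq_or_ne t 0 with rfl | ht
    · rw [mul_zero, zero_mul, tv_zero]; exact M.one_mem
    have hfr' : Frame B J (t • z) (t⁻¹ • f) := by
      obtain ⟨-, h2', h3', h4'⟩ := hf
      refine ⟨by simp [hzz], by simp [h2'], ?_, by simp [h4']⟩
      simp only [map_smul, LinearMap.smul_apply, h3', smul_eq_mul, mul_one]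
      field_simp
    obtain ⟨k, hk, hkz⟩ := exists_frame_map hD hf hfr'
    rw [← tv_smul, ← hkz, ← conj_tv]
    exact M.mul_mem (M.mul_mem (hM k hk) hcM) (M.inv_mem (hM k hk))
  intro e
  have h1 := M.mul_mem (hsq ((e / c + 1) / 2)) (M.inv_mem (hsq ((e / c - 1) / 2)))
  rw [mul_inv_eq_iff_eq_mul.2 (show tv hD.alt z ((e / c + 1) / 2 * ((e / c + 1) / 2) * c) =
      tv hD.alt z e * tv hD.alt z ((e / c - 1) / 2 * ((e / c - 1) / 2) * c) by
    rw [tv_mul]; congr 1; field_simp; ring)] at h1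
  exact h1

/-- The image of a singular line split into two orthogonal non-singular vectors. -/
theorem root_of_split {e₁ e₂ : V} {κ : F} (hκ : κ ≠ 0) (h1 : B e₁ (J e₁) ≠ 0) (h12 : B e₂ e₁ = 0)
    (h12' : B e₂ (J e₁) = 0) (hT : ∀ c, tv hD.alt e₁ (κ * c) * tv hD.alt e₂ c ∈ M) : Root hD M e₁ := by
  have hδ1 : 1 - δ ≠ 0 := fun e => hD.nsq (by rw [← sub_eq_zero.1 e]; exact IsSquare.one)
  obtain ⟨p, r, hpr, hr⟩ : ∃ p r : F, p * p - δ * (r * r) = 1 ∧ r ≠ 0 :=
    ⟨(1 + δ) / (1 - δ), 2 / (1 - δ), by field_simp; ring, div_ne_zero hD.two hδ1⟩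
  obtain ⟨k, hk, hk1, hkfix⟩ := exists_rot hD h1 hpr
  obtain ⟨e₁', he₁'⟩ : ∃ x, x = p • e₁ + r • J e₁ := ⟨_, rfl⟩
  rw [← he₁'] at hk1
  have hk2 : k.1 e₂ = e₂ := hkfix e₂ h12 h12'
  have h21 : B e₁ e₂ = 0 := by rw [alt_swap hD.alt, h12, neg_zero]
  have h1'2 : B e₁' e₂ = 0 := by
    rw [he₁', map_add, map_smul, map_smul, LinearMap.add_apply, LinearMap.smul_apply, LinearMap.smul_apply, h21,
      alt_swap hD.alt, h12']; simp
  obtain ⟨s, hsd⟩ : ∃ s, s = B e₁ e₁' := ⟨_, rfl⟩
  have hs : s ≠ 0 := by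
    rw [hsd, he₁', map_add, map_smul, map_smul, hD.alt e₁, smul_zero, zero_add, smul_eq_mul]
    exact mul_ne_zero hr h1
  -- the quotients of the two rotated elements
  have hmx : ∀ x, tv hD.alt e₁' x * tv hD.alt e₁ (-x) ∈ M := fun x => by
    have h := M.mul_mem (M.mul_mem (hM k hk) (hT (x / κ))) (M.inv_mem (hM k hk))
    rw [show k * (tv hD.alt e₁ (κ * (x / κ)) * tv hD.alt e₂ (x / κ)) * k⁻¹ =
      (k * tv hD.alt e₁ (κ * (x / κ)) * k⁻¹) * (k * tv hD.alt e₂ (x / κ) * k⁻¹) by group, conj_tv, conj_tv, hk1,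
      hk2, mul_div_cancel₀ _ hκ] at h
    have h' := M.mul_mem h (M.inv_mem (hT (x / κ)))
    rw [mul_div_cancel₀ _ hκ] at h'
    have e : tv hD.alt e₁' x * tv hD.alt e₂ (x / κ) * (tv hD.alt e₁ x * tv hD.alt e₂ (x / κ))⁻¹ =
        tv hD.alt e₁' x * tv hD.alt e₁ (-x) := by
      rw [mul_inv_rev, ← mul_assoc, mul_assoc _ (tv hD.alt e₂ (x / κ)), mul_inv_cancel, mul_one,
        inv_eq_of_mul_eq_one_right (show tv hD.alt e₁ x * tv hD.alt e₁ (-x) = 1 by
          rw [tv_mul, add_neg_cancel, tv_zero])]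
    rwa [e] at h'
  have hTmove : ∀ (x : F) (z : V), B z e₂ = 0 → ∃ t ∈ M, t.1 z = (tv hD.alt e₁ x).1 z ∧ t.1 e₁ = e₁ := fun x z hz => by
    refine ⟨_, hT (x / κ), ?_, ?_⟩
    · show (tv hD.alt e₁ _).1 ((tv hD.alt e₂ _).1 z) = _
      rw [tv_apply hD.alt e₂, hz, mul_zero, zero_smul, add_zero, mul_div_cancel₀ _ hκ]
    · show (tv hD.alt e₁ _).1 ((tv hD.alt e₂ _).1 e₁) = _
      simp [tv_apply, h21, hD.alt e₁]
  let G : V → Prop := fun z => B z e₂ = 0 ∧ ∀ e, tv hD.alt z e * tv hD.alt e₁ (-e) ∈ M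
  have hu : ∀ x z, G z → G ((tv hD.alt e₁ x).1 z) := fun x z hz => by
    refine ⟨by simp [tv_apply, hz.1, h21], fun e => ?_⟩
    obtain ⟨t, ht, htz, hte⟩ := hTmove x z hz.1
    have h := M.mul_mem (M.mul_mem ht (hz.2 e)) (M.inv_mem ht)
    rwa [show t * (tv hD.alt z e * tv hD.alt e₁ (-e)) * t⁻¹ =
      (t * tv hD.alt z e * t⁻¹) * (t * tv hD.alt e₁ (-e) * t⁻¹) by group, conj_tv, conj_tv, htz, hte] at h
  have hl0 : ∀ x, G ((tv hD.alt e₁' x).1 e₁) := fun x => by
    refine ⟨by simp [tv_apply, h21, h1'2], fun e => ?_⟩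
    obtain ⟨t, ht, htz, hte⟩ := hTmove e e₁' h1'2
    have h := M.mul_mem (hmx x) (M.mul_mem (M.mul_mem ht (M.inv_mem (hmx x))) (M.inv_mem ht))
    have hi : ∀ (v : V) (a : F), (tv hD.alt v a)⁻¹ = tv hD.alt v (-a) := fun v a =>
      inv_eq_of_mul_eq_one_right (by rw [tv_mul, add_neg_cancel, tv_zero])
    rw [mul_inv_rev, hi, hi, neg_neg, show t * (tv hD.alt e₁ x * tv hD.alt e₁' (-x)) * t⁻¹ =
      (t * tv hD.alt e₁ x * t⁻¹) * (t * tv hD.alt e₁' (-x) * t⁻¹) by group, conj_tv, conj_tv, htz, hte] at h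
    have e' : tv hD.alt ((tv hD.alt e₁' x).1 e₁) e * tv hD.alt e₁ (-e) =
        tv hD.alt e₁' x * tv hD.alt e₁ (-x) * (tv hD.alt e₁ x * tv hD.alt ((tv hD.alt e₁ e).1 e₁') (-x)) := by
      rw [mul_assoc, ← mul_assoc (tv hD.alt e₁ (-x)), tv_mul, neg_add_cancel, tv_zero, one_mul,
        ← conj_tv hD.alt (tv hD.alt e₁' x) e₁ e, ← conj_tv hD.alt (tv hD.alt e₁ e) e₁' (-x), hi, hi]
      group
    rw [e']; exact h
  have hl : ∀ x z, G z → G ((tv hD.alt e₁' x).1 z) := fun x z hz => by
    refine ⟨by simp [tv_apply, hz.1, h1'2], fun e => ?_⟩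
    have hz' := hu x z hz
    have hm := hmx x
    have h := M.mul_mem (M.mul_mem (M.mul_mem hm (hz'.2 e)) (M.inv_mem hm)) ((hl0 x).2 e)
    rw [show ∀ m a b : isomGroup B, m * (a * b) * m⁻¹ = (m * a * m⁻¹) * (m * b * m⁻¹) from fun m a b => by group,
      conj_tv, conj_tv] at h
    have ez : (tv hD.alt e₁' x * tv hD.alt e₁ (-x)).1 ((tv hD.alt e₁ x).1 z) = (tv hD.alt e₁' x).1 z := by
      show (tv hD.alt e₁' x).1 ((tv hD.alt e₁ (-x)).1 ((tv hD.alt e₁ x).1 z)) = _
      congr 1
      simp only [tv_apply, map_add, map_smul, LinearMap.add_apply, LinearMap.smul_apply, hD.alt e₁, smul_eq_mul]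
      module
    have ee : (tv hD.alt e₁' x * tv hD.alt e₁ (-x)).1 e₁ = (tv hD.alt e₁' x).1 e₁ := by
      show (tv hD.alt e₁' x).1 ((tv hD.alt e₁ (-x)).1 e₁) = _
      congr 1
      simp [tv_apply, hD.alt e₁]
    rw [ez, ee, mul_assoc, ← mul_assoc (tv hD.alt _ (-e)), tv_mul, neg_add_cancel, tv_zero, one_mul] at h
    exact h
  obtain ⟨l, hl0', hl1⟩ := exists_unit hD hM
  have hG : G (l • e₁) := by
    have h := hl (-l⁻¹) _ (hu ((1 - l) / (s * s)) _ (hl0 1))
    convert h using 1
    simp only [tv_apply, map_add, map_smul, LinearMap.add_apply, LinearMap.smul_apply, smul_eq_mul, hD.alt e₁,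
      hD.alt e₁', alt_swap hD.alt e₁' e₁, ← hsd]
    match_scalars <;> field_simp <;> ring
  intro c
  have h := hG.2 (c / (l * l - 1))
  rwa [tv_smul, tv_mul, show l * l * (c / (l * l - 1)) + -(c / (l * l - 1)) = c by
    rw [show l * l * (c / (l * l - 1)) + -(c / (l * l - 1)) = (l * l - 1) * (c / (l * l - 1)) by ring,
      mul_div_cancel₀ _ (sub_ne_zero.2 hl1)]] at h

/-- A transvection group from an element outside the normaliser. -/
theorem exists_root {g : isomGroup B} (hg : g ∈ M) (hgn : ¬ Nrm J g) : ∃ a : V, a ≠ 0 ∧ Root hD M a := by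
  obtain ⟨v, hv, hA⟩ := exists_moved hD hgn
  have hδ := delta_ne hD
  have hT' : ∀ u, B u (J u) = 0 → ∀ d, tv hD.alt (g.1 u) (-δ * d) * tv hD.alt (g.1 (J u)) d ∈ M := fun u hu d => by
    have h := M.mul_mem (M.mul_mem hg (hM _ (lineTv_nrm hD hu d))) (M.inv_mem hg)
    rwa [lineTv, show g * (tv hD.alt u (-δ * d) * tv hD.alt (J u) d) * g⁻¹ =
      (g * tv hD.alt u (-δ * d) * g⁻¹) * (g * tv hD.alt (J u) d * g⁻¹) by group, conj_tv, conj_tv] at h
  have hJv : B (J v) v = 0 := by rw [alt_swap hD.alt, hv, neg_zero]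
  obtain ⟨w, hw⟩ : ∃ w, w = g.1 v := ⟨_, rfl⟩
  obtain ⟨w', hw'⟩ : ∃ w', w' = g.1 (J v) := ⟨_, rfl⟩
  rw [← hw] at hA
  have hww' : B w w' = 0 := by rw [hw, hw', g.2, hv]
  have hw'w : B w' w = 0 := by rw [alt_swap hD.alt, hww', neg_zero]
  obtain ⟨t, ht⟩ : ∃ t, t = -(B w' (J w) / B w (J w)) := ⟨_, rfl⟩
  obtain ⟨e₂, he₂⟩ : ∃ x, x = w' + t • w := ⟨_, rfl⟩
  have h21 : B e₂ w = 0 := by rw [he₂]; simp [hD.alt w, hw'w]
  have h21' : B e₂ (J w) = 0 := by
    rw [he₂, map_add, map_smul, LinearMap.add_apply, LinearMap.smul_apply, ht, smul_eq_mul, neg_mul,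
      div_mul_cancel₀ _ hA, add_neg_cancel]
  by_cases hA2 : B e₂ (J e₂) = 0
  · -- a singular vector in the image
    obtain ⟨u, hu⟩ : ∃ u, u = J v + t • v := ⟨_, rfl⟩
    have hue : g.1 u = e₂ := by rw [hu, map_add, map_smul, ← hw, ← hw', he₂]
    have huu : B u (J u) = 0 := by
      simp [hu, hD.sq, hv, hJv, hD.alt v, hD.alt (J v)]
    have he20 : e₂ ≠ 0 := fun e => by
      have hu0 : u = 0 := g.1.map_eq_zero_iff.1 (hue.trans e)
      have h0 := coeff_zero hD (S := ⊥) (by simp) (v := v) (a := t) (b := 1)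
        (by simpa using fun e0 => hA (by rw [hw, e0]; simp)) (by rw [Submodule.mem_bot, ← hu0, hu]; module)
      exact one_ne_zero h0.2
    have hzq : B e₂ (g.1 (J u)) = 0 := by rw [← hue, g.2, huu]
    refine ⟨e₂, he20, root_of_singular hD hM he20 hA2 hzq (fun hs => hA ?_) (fun d => hue ▸ hT' u huu d)⟩
    have hwP : w ∈ Submodule.span F {e₂, J e₂} := by
      refine mem_line_of_perp hD he20 hA2 h21 ?_
      rw [hD.skew, h21', neg_zero]
    obtain ⟨a, b, hab⟩ := Submodule.mem_span_pair.1 hwP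
    rw [← hab]
    simp [hD.sq, hA2, hD.alt e₂, hD.alt (J e₂), alt_swap hD.alt (J e₂) e₂]
  · -- two orthogonal non-singular vectors
    obtain ⟨R, hR, hR2, hRfix⟩ := exists_rot hD hA2 (p := -1) (r := 0) (by ring)
    have hwe : B w e₂ = 0 := by rw [alt_swap hD.alt, h21, neg_zero]
    have hwe' : B w (J e₂) = 0 := by rw [jpol_symm hD, h21']
    have hRw : R.1 w = w := hRfix w hwe hwe'
    have hRw' : R.1 w' = -e₂ + (-t) • w := by
      rw [show w' = e₂ + (-t) • w by rw [he₂]; module, map_add, map_smul, hR2, hRw]; module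
    have hw0 : w ≠ 0 := fun e => hA (by rw [e]; simp)
    have hκ : 2 * (t * t - δ) ≠ 0 := mul_ne_zero hD.two fun e => hD.nsq ⟨t, (sub_eq_zero.1 e).symm⟩
    refine ⟨w, hw0, root_of_split hD hM (κ := t * t - δ) (right_ne_zero_of_mul hκ) hA h21 h21' fun c => ?_⟩
    have hd := hT' v hv (c / 2)
    rw [← hw, ← hw'] at hd
    have h := M.mul_mem hd (M.mul_mem (M.mul_mem (hM R hR) hd) (M.inv_mem (hM R hR)))
    rw [show R * (tv hD.alt w (-δ * (c / 2)) * tv hD.alt w' (c / 2)) * R⁻¹ =
      (R * tv hD.alt w (-δ * (c / 2)) * R⁻¹) * (R * tv hD.alt w' (c / 2) * R⁻¹) by group, conj_tv, conj_tv, hRw,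
      hRw'] at h
    have h2 := hD.two
    convert h using 1
    refine Subtype.ext (LinearEquiv.ext fun z => ?_)
    show (tv hD.alt w _).1 ((tv hD.alt e₂ _).1 z) =
      (tv hD.alt w _).1 ((tv hD.alt w' _).1 ((tv hD.alt w _).1 ((tv hD.alt (-e₂ + (-t) • w) _).1 z)))
    simp only [tv_apply, he₂, map_add, map_neg, map_smul, LinearMap.add_apply, LinearMap.smul_apply, LinearMap.neg_apply,
      hD.alt w, hD.alt w', hww', hw'w, smul_eq_mul]
    match_scalars <;> field_simp <;> ring

theorem root_all {a : V} (ha0 : a ≠ 0) (ha : Root hD M a) : ∀ v, Root hD M v := by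
  obtain ⟨e, he, he0, heR⟩ : ∃ e, B e (J e) = 0 ∧ e ≠ 0 ∧ Root hD M e := by
    obtain ⟨e, he, hae, hJae⟩ := exists_iso_two hD ha0 1 0
    refine ⟨e, he, fun h => by rw [h, map_zero] at hae; exact zero_ne_one hae,
      root_move hD hM ha he ?_ (by rw [hae]; exact one_ne_zero)⟩
    rw [hD.skew, neg_eq_zero] at hJae
    exact hJae
  obtain ⟨f, hf⟩ := exists_frame hD he he0
  have hiso : ∀ v, B v (J v) = 0 → Root hD M v := by
    intro v hv
    by_cases hv0 : v = 0
    · intro c
      rw [hv0, ← zero_smul F e]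
      exact root_smul hD heR 0 c
    obtain ⟨f', hf'⟩ := exists_frame hD hv hv0
    obtain ⟨k, hk, hke⟩ := exists_frame_map hD hf hf'
    intro c
    rw [← hke, ← conj_tv]
    exact M.mul_mem (M.mul_mem (hM k hk) (heR c)) (M.inv_mem (hM k hk))
  intro v
  rcases iso_or_sum hD v with h | ⟨u, hu, hvu, hne⟩
  · exact hiso v h
  · have := root_line hD (hiso u hu) (hiso _ hvu) hne 1
    rwa [one_smul, sub_add_cancel] at this

/-- Anything beyond the normaliser generates the whole group. -/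
theorem eq_top {g : isomGroup B} (hg : g ∈ M) (hgn : ¬ Nrm J g) : M = ⊤ := by
  obtain ⟨a, ha0, ha⟩ := exists_root hD hM hg hgn
  rw [eq_top_iff, ← tvGroup_eq_top hD.alt hD.nondeg]
  refine (Subgroup.closure_le _).2 ?_
  rintro _ ⟨v, c, rfl⟩
  exact root_all hD hM ha0 ha v c

omit hM in
theorem exists_not_nrm : ∃ g : isomGroup B, ¬ Nrm J g := by
  obtain ⟨v, hv⟩ : ∃ v, B v (J v) ≠ 0 := by
    by_contra hall
    push Not at hall
    obtain ⟨v, hv⟩ : ∃ v : V, v ≠ 0 := by
      by_contra hc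
      push Not at hc
      have : finrank F (⊤ : Submodule F V) ≤ 0 := by
        rw [show (⊤ : Submodule F V) = ⊥ from eq_bot_iff.2 fun x _ => (Submodule.mem_bot F).2 (hc x), finrank_bot]
      rw [finrank_top] at this
      have := hD.dim
      omega
    obtain ⟨z, -, h1, h2⟩ := exists_two hD (S := ⊥) (by simp) (v := v) (by simpa using hv) 0 1
    have h3 := hall (v + z)
    simp only [map_add, LinearMap.add_apply, hall v, hall z, zero_add, add_zero] at h3
    have h4 : B z (J v) = B v (J z) := by rw [alt_swap hD.alt, hD.skew, neg_neg]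
    have h5 : B v (J z) = -1 := by
      have := hD.skew v z
      rw [h2] at this
      linear_combination this
    rw [h4, h5] at h3
    exact hD.two (by linear_combination -h3)
  refine ⟨tv hD.alt v 1, fun h => ?_⟩
  have hv0 : v ≠ 0 := fun e => hv (by rw [e]; simp)
  have hli := fun (a b : F) (e : a • v + b • J v = 0) => coeff_zero hD (S := ⊥) (by simp) (v := v)
    (by simpa using hv0) (a := a) (b := b) (by rw [Submodule.mem_bot]; exact e)
  have hJv : B (J v) v = -B v (J v) := hD.skew v v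
  rcases h with h | h
  · have e := h v
    simp only [tv_apply, hD.alt v, mul_zero, zero_smul, add_zero, one_mul] at e
    exact hv (neg_eq_zero.1 (hJv ▸ (hli (B (J v) v) 0 (by linear_combination (norm := module) e)).1))
  · have e := h v
    simp only [tv_apply, hD.alt v, mul_zero, zero_smul, add_zero, one_mul] at e
    exact hD.two (hli (B (J v) v) 2 (by linear_combination (norm := module) e)).2

end CfsgLib.Classical.GeoFour.Sp.GU
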