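import Cfsg.Agent.Lib.Classical.GeoFour.Sp.GU
import Cfsg.Agent.Lib.Classical.QuadExtension
import Cfsg.Agent.Lib.Classical.SympMatrix

/-!
# Quadratic adjoint-skew subfields in four-dimensional symplectic groups
-/

set_option autoImplicit false
set_option linter.unusedSectionVars false
set_option backward.isDefEq.respectTransparency false

open Matrix Module
open CfsgLib.Classical.UnitarySubSymp (Nrm)

namespace CfsgLib.Classical.GeoFour.Sp.GU

variable {F : Type*} [Field F] [Fintype F]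

theorem spGL_isMaximal (m : ℕ) (hm : m = 2) (h5 : 5 ≤ Fintype.card F) (h2 : (2 : F) ≠ 0)
    (K : Subalgebra F (Matrix (Fin m ⊕ Fin m) (Fin m ⊕ Fin m) F)) (hK : Cfsg.Geo.IsFieldSubalgebra 2 K)
    (hac : Cfsg.Geo.IsAdjointClosedFor (Cfsg.sympForm m F) K)
    (hnsa : ¬ Cfsg.Geo.IsSelfAdjointFor (Cfsg.sympForm m F) K) :
    Cfsg.Geo.IsMaximalIn (Cfsg.spGL m F) (Cfsg.Geo.subalgebraNormalizer K ⊓ Cfsg.spGL m F) := by
  classical
  haveI : Nonempty (Fin m ⊕ Fin m) := ⟨Sum.inl ⟨0, by omega⟩⟩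
  set f := sympBil F m
  have hf : ∀ u v, f u v = Cfsg.sympForm m F u v := fun u v => sympBil_apply m u v
  have hA := sympBil_isAlt (F := F) m
  obtain ⟨k, hk, hns⟩ : ∃ k ∈ K, ∃ u v, f (k *ᵥ u) v ≠ f u (k *ᵥ v) := by
    by_contra hall
    push Not at hall
    exact hnsa fun k hk u v => by rw [← hf, ← hf]; exact hall k hk u v
  obtain ⟨k', hk', hadj⟩ := hac k hk
  set J := k - k' with hJdef
  have hJK : J ∈ K := K.sub_mem hk hk'
  have hadj' : ∀ u v, f (k' *ᵥ u) v = f u (k *ᵥ v) := fun u v => by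
    rw [alt_swap hA, hf v, ← hadj, ← hf, alt_swap hA (k *ᵥ v), neg_neg]
  have hadj0 : ∀ u v, f (k *ᵥ u) v = f u (k' *ᵥ v) := fun u v => by rw [hf, hf]; exact hadj u v
  have hskew : ∀ u v, f (J *ᵥ u) v = -f u (J *ᵥ v) := fun u v => by
    rw [hJdef, Matrix.sub_mulVec, Matrix.sub_mulVec, map_sub, LinearMap.sub_apply, map_sub, hadj0, hadj']
    ring
  have hJ0 : J ≠ 0 := fun h => by
    obtain ⟨u, v, huv⟩ := hns
    rw [sub_eq_zero.1 h] at huv
    exact huv (by rw [hadj', sub_eq_zero.1 h])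
  have hne : ∀ v, (∀ u, f u v = 0) → v = 0 := fun v hv => (sympBil_nondegenerate m).2 v hv
  have hJs : ∀ c : F, J ≠ c • (1 : Matrix _ _ F) := by
    intro c hc
    obtain ⟨v, hv⟩ : ∃ v, J *ᵥ v ≠ 0 := by
      by_contra hall
      push Not at hall
      exact hJ0 (Matrix.ext_of_mulVec_single fun i => by rw [hall, Matrix.zero_mulVec])
    refine hv (hne _ fun u => ?_)
    have h := hskew u v
    rw [hc, Matrix.smul_mulVec, Matrix.smul_mulVec, Matrix.one_mulVec, Matrix.one_mulVec] at h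
    simp only [map_smul, LinearMap.smul_apply, smul_eq_mul] at h
    rw [hc, Matrix.smul_mulVec, Matrix.one_mulVec, map_smul, smul_eq_mul]
    exact (mul_eq_zero.1 (show (2 : F) * (c * f u v) = 0 by linear_combination h)).resolve_left h2
  obtain ⟨δ, b, hJJ⟩ := QuadExtension.exists_repr hK hJK hJs (K.mul_mem hJK hJK)
  have hb : b = 0 := by
    have key : ∀ u v, f (b • (J *ᵥ u)) v = 0 := fun u v => by
      have e1 : ∀ w, (J * J) *ᵥ w = δ • w + b • (J *ᵥ w) := fun w => by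
        rw [hJJ, Matrix.add_mulVec, Matrix.smul_mulVec, Matrix.smul_mulVec, Matrix.one_mulVec]
      have h : f ((J * J) *ᵥ u) v = f u ((J * J) *ᵥ v) := by
        rw [← Matrix.mulVec_mulVec, ← Matrix.mulVec_mulVec, hskew, hskew, neg_neg]
      rw [e1, e1] at h
      simp only [map_add, map_smul, LinearMap.add_apply, LinearMap.smul_apply, smul_eq_mul, hskew] at h ⊢
      exact (mul_eq_zero.1 (show (2 : F) * (b * -f u (J *ᵥ v)) = 0 by linear_combination h)).resolve_left h2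
    by_contra hb
    exact hJ0 (Matrix.ext_of_mulVec_single fun i => by
      rw [Matrix.zero_mulVec]
      refine (smul_eq_zero.1 ((sympBil_nondegenerate m).1 _ (key (Pi.single i 1)))).resolve_left hb)
  rw [hb, zero_smul, add_zero] at hJJ
  have hδ : ¬ IsSquare δ := by
    rintro ⟨r, rfl⟩
    have hz : (J - r • (1 : Matrix _ _ F)) * (J + r • (1 : Matrix _ _ F)) = 0 := by
      simp only [sub_mul, mul_add, Matrix.smul_mul, Matrix.mul_smul, one_mul, mul_one, hJJ, smul_smul]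
      abel
    obtain ⟨y, hyK, hy⟩ := hK.inv _ (K.sub_mem hJK (K.smul_mem K.one_mem r)) (fun h => hJs r (sub_eq_zero.1 h))
    have := congrArg (y * ·) hz
    rw [← mul_assoc, hK.comm y hyK _ (K.sub_mem hJK (K.smul_mem K.one_mem r)), hy, one_mul, mul_zero] at this
    exact hJs (-r) (by rw [neg_smul]; exact eq_neg_of_add_eq_zero_left this)
  have hD : Data f (Matrix.toLin' J) δ :=
    ⟨hA, sympBil_nondegenerate m, h2, fun x => by
      rw [Matrix.toLin'_apply, Matrix.toLin'_apply, Matrix.mulVec_mulVec, hJJ, Matrix.smul_mulVec,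
        Matrix.one_mulVec],
      fun x y => by rw [Matrix.toLin'_apply, Matrix.toLin'_apply]; exact hskew x y, hδ, by simp [hm], fun T hT => by
        obtain ⟨r, -, hr⟩ := Finset.exists_mem_notMem_of_card_lt_card (s := T) (t := Finset.univ) (by
          rw [Finset.card_univ]; omega)
        exact ⟨r, hr⟩⟩
  let ψ : isomGroup f →* GL (Fin m ⊕ Fin m) F :=
    (Cfsg.spGL m F).subtype.comp ((spEquiv (F := F) m).symm.trans (spGLEquiv m)).toMonoidHom
  have hψ : ∀ g x, (ψ g : Matrix (Fin m ⊕ Fin m) (Fin m ⊕ Fin m) F) *ᵥ x = g.1 x := fun g x => by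
    change ((spEquiv (F := F) m).symm g).1 *ᵥ x = _
    rw [← spEquiv_apply, MulEquiv.apply_symm_apply]
  have hψr : ψ.range = Cfsg.spGL m F := le_antisymm
    (by rintro _ ⟨g, rfl⟩; exact SetLike.coe_mem _)
    fun t ht => ⟨((spEquiv (F := F) m).symm.trans (spGLEquiv m)).symm ⟨t, ht⟩, by
      change ((((spEquiv (F := F) m).symm.trans (spGLEquiv m)) _ : Cfsg.spGL m F) : GL _ F) = t
      rw [MulEquiv.apply_symm_apply]⟩
  have hN : ∀ g, ψ g ∈ Cfsg.Geo.subalgebraNormalizer K ↔ Nrm (Matrix.toLin' J) g := by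
    intro g
    rw [QuadExtension.mem_normalizer_iff h2 hK hJK hJs hJJ (delta_ne hD) (ψ g)]
    refine or_congr ⟨fun h x => ?_, fun h => ?_⟩ ⟨fun h x => ?_, fun h => ?_⟩
    · rw [Matrix.toLin'_apply, Matrix.toLin'_apply, ← hψ, ← hψ, Matrix.mulVec_mulVec, h, Matrix.mulVec_mulVec]
    · refine Matrix.ext_of_mulVec_single fun i => ?_
      have := h (Pi.single i 1)
      rw [Matrix.toLin'_apply, Matrix.toLin'_apply, ← hψ, ← hψ] at this
      rwa [← Matrix.mulVec_mulVec, ← Matrix.mulVec_mulVec]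
    · rw [Matrix.toLin'_apply, Matrix.toLin'_apply, ← hψ, ← hψ, Matrix.mulVec_mulVec, h, Matrix.neg_mulVec,
        Matrix.mulVec_mulVec]
    · refine Matrix.ext_of_mulVec_single fun i => ?_
      have := h (Pi.single i 1)
      rw [Matrix.toLin'_apply, Matrix.toLin'_apply, ← hψ, ← hψ] at this
      rwa [← Matrix.mulVec_mulVec, Matrix.neg_mulVec, ← Matrix.mulVec_mulVec]
  obtain ⟨g₀, hg₀⟩ := exists_not_nrm hD
  refine ⟨lt_of_le_not_ge inf_le_right fun hle => ?_, fun M hM hMK => ?_⟩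
  · exact hg₀ ((hN g₀).1 (hle (hψr ▸ ⟨g₀, rfl⟩ : ψ g₀ ∈ Cfsg.spGL m F)).1)
  · by_contra hne
    have hlt : Cfsg.Geo.subalgebraNormalizer K ⊓ Cfsg.spGL m F < M :=
      lt_of_le_of_ne hM fun e => hne (Or.inl e.symm)
    obtain ⟨t, htM, htH⟩ := SetLike.exists_of_lt hlt
    obtain ⟨g, rfl⟩ : t ∈ ψ.range := hψr ▸ hMK htM
    have htop : M.comap ψ = ⊤ := eq_top hD
      (fun h hh => hM ⟨(hN h).2 hh, hψr ▸ ⟨h, rfl⟩⟩) (show g ∈ M.comap ψ from htM)
      (fun hh => htH ⟨(hN g).2 hh, hψr ▸ ⟨g, rfl⟩⟩)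
    refine hne (Or.inr (le_antisymm hMK fun t ht => ?_))
    obtain ⟨s, rfl⟩ : t ∈ ψ.range := hψr ▸ ht
    exact (show s ∈ M.comap ψ from htop ▸ Subgroup.mem_top s)

end CfsgLib.Classical.GeoFour.Sp.GU
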