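import Cfsg.Agent.Lib.Classical.SympMax
import Cfsg.Agent.Lib.Classical.RootPair

/-!
# Stabilisers of pairs of complementary totally isotropic planes in four-dimensional symplectic spaces

An element moving a vector of `U` to a mixed vector `a` gives a totally isotropic plane `⟨a, b⟩` carrying a
one-parameter group.  Its conjugates under the plane's stabiliser give a transvection, and one transvection
gives all.
-/

set_option autoImplicit false
set_option linter.unusedSectionVars false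

open Module
open CfsgLib.Classical

namespace CfsgLib.Classical.GeoFour.Sp

variable {F : Type*} [Field F] {V : Type*} [AddCommGroup V] [Module F V]
  {B : V →ₗ[F] V →ₗ[F] F}

/-- An element of `M` with the given symmetric matrix on the totally isotropic pair `a`, `b`. -/
def HasQ (M : Subgroup (isomGroup B)) (a b : V) (x z y : F) : Prop :=
  ∃ g ∈ M, ∀ v, g.1 v = v + (x * B a v + z * B b v) • a + (z * B a v + y * B b v) • b

theorem HasQ.conj {M : Subgroup (isomGroup B)} {a b : V} {x z y : F} (h : HasQ M a b x z y) {k : isomGroup B}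
    (hk : k ∈ M) : HasQ M (k.1 a) (k.1 b) x z y := by
  obtain ⟨g, hg, hf⟩ := h
  refine ⟨k * g * k⁻¹, M.mul_mem (M.mul_mem hk hg) (M.inv_mem hk), fun v => ?_⟩
  obtain ⟨w, rfl⟩ := k.1.surjective v
  change k.1 (g.1 (k.1.symm (k.1 w))) = _
  rw [LinearEquiv.symm_apply_apply, hf, k.2, k.2]
  simp

/-- An overgroup of the stabiliser of a pair of complementary Lagrangian planes. -/
structure PSetting (hA : B.IsAlt) (U W : Submodule F V) (M : Subgroup (isomGroup B)) : Prop where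
  eps : IsEpsForm B (1 : F)
  pair : IsoPair B U W
  dim : finrank F U = 2
  total : finrank F V = 4
  two : (2 : F) ≠ 0
  many : ∀ T : Finset F, T.card ≤ 4 → ∃ r : F, r ∉ T
  mem : ∀ g : isomGroup B, ((U.map (g.1 : V →ₗ[F] V) = U ∧ W.map (g.1 : V →ₗ[F] V) = W) ∨
    (U.map (g.1 : V →ₗ[F] V) = W ∧ W.map (g.1 : V →ₗ[F] V) = U)) → g ∈ M

variable [Finite F] [FiniteDimensional F V]

namespace PSetting

variable {hA : B.IsAlt} {U W : Submodule F V} {M : Subgroup (isomGroup B)} (S : PSetting hA U W M)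
include S

theorem symm : PSetting hA W U M :=
  ⟨S.eps, S.pair.symm, S.pair.dim ▸ S.dim, S.total, S.two, S.many, fun g hp =>
    S.mem g (hp.imp (fun h => ⟨h.2, h.1⟩) fun h => ⟨h.2, h.1⟩)⟩

theorem shear_mem {d y : V} (hd : d ∈ U) (hy : y ∈ W) (hdy : B d y = 0) :
    ∃ k ∈ M, ∀ v, k.1 v = v + B d v • y + B y v • d := by
  obtain ⟨g, hg⟩ := S.eps.exists_rt (hA d) hdy (s := (0 : F)) (by simp [hA y])
  refine ⟨g, S.mem g (Or.inl (S.pair.rt_stab S.eps hd hy hg)), fun v => ?_⟩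
  rw [hg.2.2.2]
  module

theorem torus_mem {d f : V} (hd : d ∈ U) (hf : f ∈ W) (hdf : B d f = 1) {l : F} (hl : l ≠ 0) :
    ∃ k ∈ M, (∀ w ∈ W, k.1 w ∈ W) ∧ k.1 d = l • d ∧ k.1 f = l⁻¹ • f ∧
      ∀ v, k.1 v = v + ((l - 1) * B v f) • d + ((l⁻¹ - 1) * B d v) • f := by
  haveI : Finite V := Module.finite_of_finite F
  set T : V →ₗ[F] V := LinearMap.id + ((l - 1) • B.flip f).smulRight d + ((l⁻¹ - 1) • B d).smulRight f with hT
  have hTv : ∀ v, T v = v + ((l - 1) * B v f) • d + ((l⁻¹ - 1) * B d v) • f := fun v => by simp [hT]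
  have hfd : B f d = -1 := by rw [alt_swap hA, hdf]
  have hll : l * l⁻¹ = 1 := mul_inv_cancel₀ hl
  have hpres : ∀ x y, B (T x) (T y) = B x y := fun x y => by
    simp only [hTv, map_add, map_smul, LinearMap.add_apply, LinearMap.smul_apply, smul_eq_mul, hA d, hA f, hdf, hfd,
      alt_swap hA x d, alt_swap hA f y]
    linear_combination (B d y * B x f - B d x * B y f) * hll
  have hinj : Function.Injective T := by
    rw [injective_iff_map_eq_zero]
    intro x hx
    exact S.eps.sep x fun y => by rw [← hpres, hx, map_zero]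
  let k : isomGroup B := ⟨LinearEquiv.ofInjectiveEndo T hinj, fun x y => hpres x y⟩
  have hk : ∀ v, k.1 v = v + ((l - 1) * B v f) • d + ((l⁻¹ - 1) * B d v) • f := hTv
  have hU : ∀ u ∈ U, k.1 u ∈ U := fun u hu => by
    rw [hk, S.pair.left d hd u hu, mul_zero, zero_smul, add_zero]
    exact U.add_mem hu (U.smul_mem _ hd)
  have hW : ∀ w ∈ W, k.1 w ∈ W := fun w hw => by
    rw [hk, S.pair.right w hw f hf, mul_zero, zero_smul, add_zero]
    exact W.add_mem hw (W.smul_mem _ hf)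
  have hmap : ∀ A : Submodule F V, (∀ x ∈ A, k.1 x ∈ A) → A.map (k.1 : V →ₗ[F] V) = A := fun A hAA =>
    Submodule.eq_of_le_of_finrank_eq (by rintro _ ⟨x, hx, rfl⟩; exact hAA x hx) (LinearEquiv.finrank_map_eq k.1 _)
  refine ⟨k, S.mem k (Or.inl ⟨hmap U hU, hmap W hW⟩), hW, ?_, ?_, hk⟩
  · rw [hk, hdf, hA d]; module
  · rw [hk, hA f, hdf]; module

theorem move_indep {x x' : V} (hx : x ∈ U) (hx' : x' ∈ U) (h : x ∉ F ∙ (x' - x)) :
    ∃ k ∈ M, (∀ w ∈ W, k.1 w ∈ W) ∧ k.1 x = x' := by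
  obtain ⟨y, hy, hy0, hy1⟩ := S.pair.exists_partner S.eps ((Submodule.span_singleton_le_iff_mem _ _).2
    (U.sub_mem hx' hx)) hx h 1
  have hdy : B (x' - x) y = 0 := S.eps.orth_symm' (hy0 _ (Submodule.mem_span_singleton_self _))
  obtain ⟨k, hk, hkf⟩ := S.shear_mem (U.sub_mem hx' hx) hy hdy
  refine ⟨k, hk, fun w hw => ?_, ?_⟩
  · rw [hkf, S.pair.right y hy w hw, zero_smul, add_zero]
    exact W.add_mem hw (W.smul_mem _ hy)
  · rw [hkf, S.pair.left _ (U.sub_mem hx' hx) x hx, hy1]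
    module

theorem exists_other {x : V} : ∃ z ∈ U, z ∉ F ∙ x := by
  by_contra! hall
  have h1 := Submodule.finrank_mono (show U ≤ F ∙ x from hall)
  have h2 : finrank F ↥(F ∙ x) ≤ 1 := by
    rcases eq_or_ne x 0 with rfl | h
    · rw [Submodule.span_zero_singleton, finrank_bot]; omega
    · rw [finrank_span_singleton h]
  rw [S.dim] at h1
  omega

/-- The stabiliser is transitive on the nonzero vectors of `U`. -/
theorem move {x x' : V} (hx : x ∈ U) (hx' : x' ∈ U) (hx0 : x ≠ 0) (hx0' : x' ≠ 0) :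
    ∃ k ∈ M, (∀ w ∈ W, k.1 w ∈ W) ∧ k.1 x = x' := by
  have one : ∀ {x x' : V}, x ≠ 0 → x' ∈ U → x' ∉ F ∙ x → x ∉ F ∙ (x' - x) := fun {x x'} hx0 _ hne hm => by
    obtain ⟨t, ht⟩ := Submodule.mem_span_singleton.1 hm
    have ht0 : t ≠ 0 := fun e => hx0 (by rw [← ht, e, zero_smul])
    refine hne (Submodule.mem_span_singleton.2 ⟨t⁻¹ + 1, ?_⟩)
    have e' : t⁻¹ • x = x' - x := by
      conv_lhs => rw [← ht]
      rw [smul_smul, inv_mul_cancel₀ ht0, one_smul]
    rw [add_smul, one_smul, e']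
    abel
  by_cases h : x' ∈ F ∙ x
  swap
  · exact S.move_indep hx hx' (one hx0 hx' h)
  obtain ⟨z, hz, hzx⟩ := S.exists_other (x := x)
  have hz0 : z ≠ 0 := fun e => hzx (e ▸ zero_mem _)
  have hzx' : x' ∉ F ∙ z := fun hm => by
    obtain ⟨s, hs⟩ := Submodule.mem_span_singleton.1 h
    obtain ⟨t, ht⟩ := Submodule.mem_span_singleton.1 hm
    have ht0 : t ≠ 0 := fun e => hx0' (by rw [← ht, e, zero_smul])
    exact hzx (Submodule.mem_span_singleton.2 ⟨t⁻¹ * s, by rw [mul_smul, hs, ← ht, inv_smul_smul₀ ht0]⟩)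
  obtain ⟨k, hk, hkW, e1⟩ := S.move_indep hx hz (one hx0 hz hzx)
  obtain ⟨k', hk', hkW', e2⟩ := S.move_indep hz hx' (one hz0 hx' hzx')
  exact ⟨k' * k, M.mul_mem hk' hk, fun w hw => hkW' _ (hkW w hw), by change k'.1 (k.1 x) = x'; rw [e1, e2]⟩

theorem q_add {a b : V} (hab : B a b = 0) {x z y x' z' y' : F} (h : HasQ M a b x z y)
    (h' : HasQ M a b x' z' y') : HasQ M a b (x + x') (z + z') (y + y') := by
  obtain ⟨g, hg, hf⟩ := h
  obtain ⟨g', hg', hf'⟩ := h'
  have hba : B b a = 0 := S.eps.orth_symm' hab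
  refine ⟨g * g', M.mul_mem hg hg', fun v => ?_⟩
  change g.1 (g'.1 v) = _
  rw [hf, hf']
  simp only [map_add, map_smul, smul_eq_mul, hA a, hA b, hab, hba]
  module

theorem q_neg {a b : V} (hab : B a b = 0) {x z y : F} (h : HasQ M a b x z y) :
    HasQ M a b (-x) (-z) (-y) := by
  obtain ⟨g, hg, hf⟩ := h
  have hba : B b a = 0 := S.eps.orth_symm' hab
  refine ⟨g⁻¹, M.inv_mem hg, fun v => g.1.injective ?_⟩
  change g.1 (g.1.symm v) = _
  rw [LinearEquiv.apply_symm_apply, hf]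
  simp only [map_add, map_smul, smul_eq_mul, hA a, hA b, hab, hba]
  module

/-- An element with symmetric matrix off the line of `a ⊙ b` and a torus give a transvection. -/
theorem exists_tv_of_diag {a b : V} (hab : B a b = 0) (ha : a ≠ 0) (hb : b ≠ 0) {x y : F}
    (hxy : x ≠ 0 ∨ y ≠ 0) (h : HasQ M a b x 0 y) {l : F} (hl : l * l ≠ 1) {k : isomGroup B} (hk : k ∈ M)
    (hka : k.1 a = l • a) (hkb : k.1 b = b) : ∃ p, p ≠ 0 ∧ ∃ c : F, c ≠ 0 ∧ tv hA p c ∈ M := by
  by_cases hx : x = 0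
  · obtain ⟨g, hg, hf⟩ := h
    refine ⟨b, hb, -y, neg_ne_zero.2 (hxy.resolve_left (not_not.2 hx)), ?_⟩
    rw [show tv hA b (-y) = g from Subtype.ext (LinearEquiv.ext fun v => by
      rw [tv_apply, hf, hx, alt_swap hA v b]; module)]
    exact hg
  obtain ⟨g, hg, hf⟩ := h.conj hk
  have h1 : HasQ M a b (l * l * x) 0 y := ⟨g, hg, fun v => by
    rw [hf, hka, hkb, map_smul, LinearMap.smul_apply, smul_eq_mul]; module⟩
  obtain ⟨g', hg', hf'⟩ := S.q_add hab h1 (S.q_neg hab h)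
  refine ⟨a, ha, -((l * l - 1) * x), neg_ne_zero.2 (mul_ne_zero (sub_ne_zero.2 hl) hx), ?_⟩
  rw [show tv hA a (-((l * l - 1) * x)) = g' from Subtype.ext (LinearEquiv.ext fun v => by
    rw [tv_apply, hf', alt_swap hA v a]; module)]
  exact hg'

theorem exists_unit : ∃ l : F, l ≠ 0 ∧ l * l ≠ 1 := by
  classical
  obtain ⟨r, hr⟩ := S.many {0, 1, -1} (le_trans Finset.card_le_three (by norm_num))
  simp only [Finset.mem_insert, Finset.mem_singleton, not_or] at hr
  refine ⟨r, hr.1, fun e => ?_⟩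
  rcases mul_self_eq_one_iff.1 e with h | h
  · exact hr.2.1 h
  · exact hr.2.2 h

/-- A vector of `U` with mixed image gives a transvection. -/
theorem exists_tv_of_mixed {g : isomGroup B} (hg : g ∈ M) {d : V} (hd : d ∈ U) (h1 : g.1 d ∉ U) (h2 : g.1 d ∉ W) :
    ∃ p, p ≠ 0 ∧ ∃ c : F, c ≠ 0 ∧ tv hA p c ∈ M := by
  classical
  haveI : Fintype F := Fintype.ofFinite F
  obtain ⟨aU, haU, aW, haW, ha⟩ := S.pair.decomp (g.1 d)
  have ha0 : aU ≠ 0 := fun e => h2 (by rw [← ha, e, zero_add]; exact haW)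
  have ha0' : aW ≠ 0 := fun e => h1 (by rw [← ha, e, add_zero]; exact haU)
  have hd0 : d ≠ 0 := fun e => h1 (by rw [e, map_zero]; exact U.zero_mem)
  obtain ⟨d', hd', hdd'⟩ := S.exists_other (x := d)
  obtain ⟨y, hy, hy0, hy1⟩ := S.pair.exists_partner S.eps ((Submodule.span_singleton_le_iff_mem _ _).2 hd) hd' hdd' 1
  have hy00 : y ≠ 0 := fun e => by simp [e] at hy1
  have hdy : B d y = 0 := S.eps.orth_symm' (hy0 d (Submodule.mem_span_singleton_self d))
  set a := g.1 d with had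
  set b := g.1 y with hbd
  have hab : B a b = 0 := by rw [had, hbd, g.2]; exact hdy
  have hba : B b a = 0 := S.eps.orth_symm' hab
  have hane : a ≠ 0 := fun e => h1 (e ▸ U.zero_mem)
  have hbne : b ≠ 0 := fun e => hy00 (g.1.map_eq_zero_iff.1 e)
  have hindep : ∀ s : F, s • a ≠ b := fun s e => hy00 ((Submodule.mem_bot F).1 (S.pair.inf ▸
    ⟨(g.1.injective (show g.1 (s • d) = g.1 y by rw [map_smul, ← had, e])) ▸ U.smul_mem s hd, hy⟩))
  have hroot : ∀ l : F, HasQ M a b 0 l 0 := fun l => by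
    obtain ⟨k, hk, hkf⟩ := S.shear_mem hd (W.smul_mem l hy) (by rw [map_smul, hdy, smul_zero])
    have h : HasQ M d y 0 l 0 := ⟨k, hk, fun v => by
      rw [hkf, map_smul, LinearMap.smul_apply, smul_eq_mul]; module⟩
    exact h.conj hg
  obtain ⟨l₀, hl₀, hl₀'⟩ := S.exists_unit
  obtain ⟨f, hf, -, hf1⟩ := S.pair.exists_partner S.eps (S := ⊥) bot_le hd (by simpa using hd0) (-1)
  have hdf : B d f = 1 := by rw [alt_swap hA, hf1, neg_neg]
  obtain ⟨T, hTM, -, hTd, -, hTf⟩ := S.torus_mem hd hf hdf hl₀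
  obtain ⟨Tg, hTgM, hTga, hTgb⟩ : ∃ k ∈ M, k.1 a = l₀ • a ∧ k.1 b = b := by
    refine ⟨g * T * g⁻¹, M.mul_mem (M.mul_mem hg hTM) (M.inv_mem hg), ?_, ?_⟩
    · change g.1 (T.1 (g.1.symm (g.1 d))) = _
      rw [LinearEquiv.symm_apply_apply, hTd, map_smul, had]
    · change g.1 (T.1 (g.1.symm (g.1 y))) = _
      rw [LinearEquiv.symm_apply_apply, hTf, S.pair.right y hy f hf, hdy, hbd]
      simp
  obtain ⟨bU, hbU, bW, hbW, hb⟩ := S.pair.decomp b
  obtain ⟨A, hAd⟩ : ∃ A, A = B aU aW := ⟨_, rfl⟩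
  obtain ⟨h, hhd⟩ : ∃ h, h = B aU bW := ⟨_, rfl⟩
  obtain ⟨C, hCd⟩ : ∃ C, C = B bU bW := ⟨_, rfl⟩
  have hsplitB : ∀ {x x' w w' : V}, x ∈ U → x' ∈ U → w ∈ W → w' ∈ W →
      B (x + w) (x' + w') = B x w' - B x' w := fun {x x' w w'} hx hx' hw hw' => by
    simp only [map_add, LinearMap.add_apply, S.pair.left x hx x' hx', S.pair.right w hw w' hw', alt_swap hA w x']
    ring
  have hbUaW : B bU aW = h := by
    rw [← ha, ← hb, hsplitB haU hbU haW hbW, ← hhd] at hab
    exact (sub_eq_zero.1 hab).symm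
  have haUa : B aU a = A := by rw [← ha, map_add, S.pair.left aU haU aU haU, zero_add, ← hAd]
  have haWa : B aW a = -A := by rw [← ha, map_add, S.pair.right aW haW aW haW, add_zero, alt_swap hA, ← hAd]
  have haUb : B aU b = h := by rw [← hb, map_add, S.pair.left aU haU bU hbU, zero_add, ← hhd]
  have haWb : B aW b = -h := by rw [← hb, map_add, S.pair.right aW haW bW hbW, add_zero, alt_swap hA, hbUaW]
  have hbUa : B bU a = h := by rw [← ha, map_add, S.pair.left bU hbU aU haU, zero_add, hbUaW]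
  have hbWa : B bW a = -h := by rw [← ha, map_add, S.pair.right bW hbW aW haW, add_zero, alt_swap hA, ← hhd]
  have hbUb : B bU b = C := by rw [← hb, map_add, S.pair.left bU hbU bU hbU, zero_add, ← hCd]
  have hbWb : B bW b = -C := by rw [← hb, map_add, S.pair.right bW hbW bW hbW, add_zero, alt_swap hA, ← hCd]
  by_cases hA0 : A = 0
  · obtain ⟨k, hk, hkf⟩ := S.shear_mem haU haW (hAd ▸ hA0)
    by_cases hh0 : h = 0
    · -- both components lie in the plane
      have hmem : aU ∈ Submodule.span F ({a, b} : Set V) := by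
        have hN : LinearMap.BilinForm.Nondegenerate B :=
          ⟨fun x hx => S.eps.sep x fun v => by rw [alt_swap hA, hx, neg_zero], S.eps.sep⟩
        set P := Submodule.span F ({a, b} : Set V) with hP
        have hli : LinearIndependent F ![a, b] := by
          rw [LinearIndependent.pair_iff' hane]; exact hindep
        have hP2 : finrank F P = 2 := by
          have := finrank_span_eq_card hli
          rw [show Set.range ![a, b] = {a, b} by simp [Matrix.range_cons, Matrix.range_empty, Set.pair_comm]] at this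
          rw [hP]; simpa using this
        have hle : P ≤ LinearMap.BilinForm.orthogonal B P := fun x hx z hz => by
          obtain ⟨s, t, rfl⟩ := Submodule.mem_span_pair.1 hx
          obtain ⟨s', t', rfl⟩ := Submodule.mem_span_pair.1 hz
          simp [LinearMap.BilinForm.IsOrtho, LinearMap.isOrtho_def, hA a, hA b, hab, hba]
        have heq := Submodule.eq_of_le_of_finrank_le hle (by
          rw [LinearMap.BilinForm.finrank_orthogonal hN P, S.total, hP2])
        rw [heq]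
        intro z hz
        obtain ⟨s', t', rfl⟩ := Submodule.mem_span_pair.1 hz
        simp [LinearMap.BilinForm.IsOrtho, LinearMap.isOrtho_def, alt_swap hA a aU, alt_swap hA b aU, haUa, haUb, hA0,
          hh0]
      obtain ⟨s₁, t₁, hst⟩ := Submodule.mem_span_pair.1 hmem
      have ht₁ : t₁ ≠ 0 := fun e => by
        rw [e, zero_smul, add_zero] at hst
        rcases eq_or_ne s₁ 0 with hs | hs
        · exact ha0 (by rw [← hst, hs, zero_smul])
        · exact h1 ((Submodule.smul_mem_iff _ hs).1 (hst ▸ haU))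
      obtain ⟨p, q, hpq⟩ : ∃ p q : F, b = p • aU + q • aW := by
        refine ⟨(1 - s₁) / t₁, -s₁ / t₁, ?_⟩
        have e : t₁ • b = (1 - s₁) • aU + (-s₁) • aW := by
          rw [eq_sub_of_add_eq' hst, ← ha]; module
        rw [← inv_smul_smul₀ ht₁ b, e, smul_add, smul_smul, smul_smul]
        congr 2 <;> ring
      have hne : p ≠ 0 ∨ q ≠ 0 := by
        by_contra! h0
        exact hbne (by rw [hpq, h0.1, h0.2]; simp)
      have hUW : B aU aW = 0 := hAd ▸ hA0
      obtain ⟨g₁, hg₁, hg₁f⟩ := hroot 1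
      have hX : HasQ M aU aW (2 * p) (p + q) (2 * q) := ⟨g₁, hg₁, fun v => by
        rw [hg₁f, hpq, ← ha]
        simp only [map_add, map_smul, LinearMap.add_apply, LinearMap.smul_apply, smul_eq_mul]
        module⟩
      obtain ⟨k₁, hk₁, hk₁f⟩ := S.shear_mem haU (W.smul_mem (-(p + q)) haW) (by rw [map_smul, hUW, smul_zero])
      have hY : HasQ M aU aW 0 (-(p + q)) 0 := ⟨k₁, hk₁, fun v => by
        rw [hk₁f, map_smul, LinearMap.smul_apply, smul_eq_mul]; module⟩
      have hD := S.q_add hUW hX hY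
      rw [add_zero, add_neg_cancel, add_zero] at hD
      obtain ⟨f', hf', -, hf'1⟩ := S.pair.exists_partner S.eps (S := ⊥) bot_le haU (by simpa using ha0) (-1)
      have hdf' : B aU f' = 1 := by rw [alt_swap hA, hf'1, neg_neg]
      obtain ⟨T', hT'M, -, hT'd, -, hT'f⟩ := S.torus_mem haU hf' hdf' hl₀
      exact S.exists_tv_of_diag hUW ha0 ha0'
        (hne.imp (mul_ne_zero S.two) (mul_ne_zero S.two)) hD hl₀' hT'M hT'd
        (by rw [hT'f, S.pair.right aW haW f' hf', hUW]; simp)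
    · -- the commutator with a shear
      obtain ⟨x₁, hx₁, hx₁f⟩ := hroot 1
      have hka : k.1 a = a := by rw [hkf, haUa, haWa, hA0]; simp
      obtain ⟨δ, hδ⟩ : ∃ δ, δ = h • (aW - aU) := ⟨_, rfl⟩
      have hkb : k.1 b = b + δ := by rw [hkf, haUb, haWb, hδ]; module
      obtain ⟨x₂, hx₂, hx₂f⟩ := (show HasQ M a b 0 1 0 from ⟨x₁, hx₁, hx₁f⟩).conj hk
      rw [hka, hkb] at hx₂f
      have hbδ : B b δ = 2 * (h * h) := by
        rw [hδ, map_smul, map_sub, alt_swap hA b aW, alt_swap hA b aU, haUb, haWb, smul_eq_mul]; ring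
      have hδb : B δ b = -(2 * (h * h)) := by rw [alt_swap hA, hbδ]
      have haδ : B a δ = 0 := by
        rw [hδ, map_smul, map_sub, alt_swap hA a aW, alt_swap hA a aU, haUa, haWa, hA0]; simp
      obtain ⟨c, hc⟩ : ∃ c, c = -(2 * (2 * (h * h))) := ⟨_, rfl⟩
      refine ⟨a, hane, c, by rw [hc]; exact neg_ne_zero.2 (mul_ne_zero S.two (mul_ne_zero S.two (mul_ne_zero hh0 hh0))),
        ?_⟩
      have e : x₁ * x₂ = tv hA a c * (x₂ * x₁) := Subtype.ext (LinearEquiv.ext fun v => by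
        change x₁.1 (x₂.1 v) = (tv hA a c).1 (x₂.1 (x₁.1 v))
        simp only [tv_apply, hx₁f, hx₂f, map_add, map_smul, LinearMap.add_apply, LinearMap.smul_apply, smul_eq_mul,
          hA a, hA b, hA δ, hab, hba, hbδ, hδb, haδ, alt_swap hA δ a, alt_swap hA v a, hc]
        module)
      rw [eq_mul_inv_of_mul_eq e.symm]
      exact M.mul_mem (M.mul_mem hx₁ hx₂) (M.inv_mem (M.mul_mem hx₂ hx₁))
  by_cases hgood : ∃ t : F, C + 2 * h * t + t * t * A ≠ 0 ∧ h + t * A ≠ 0 ∧ C - t * t * A ≠ 0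
  · obtain ⟨t, ht1, ht2, ht3⟩ := hgood
    obtain ⟨β, hβd⟩ : ∃ β, β = C + 2 * h * t + t * t * A := ⟨_, rfl⟩
    rw [← hβd] at ht1
    have hn : B (bU + t • aU) (bW + t • aW) = β := by
      simp only [map_add, map_smul, LinearMap.add_apply, LinearMap.smul_apply, smul_eq_mul, hbUaW, ← hAd, ← hhd, ← hCd,
        hβd]
      ring
    obtain ⟨R, hRM, -, -, -, hRf⟩ := S.torus_mem (U.add_mem hbU (U.smul_mem t haU))
      (W.smul_mem β⁻¹ (W.add_mem hbW (W.smul_mem t haW))) (by rw [map_smul, hn, smul_eq_mul, inv_mul_cancel₀ ht1])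
      (neg_ne_zero.2 (one_ne_zero : (1 : F) ≠ 0))
    have hRv : ∀ v, R.1 v = v + (-2 * β⁻¹ * (B v bW + t * B v aW)) • (bU + t • aU) +
        (-2 * β⁻¹ * (B bU v + t * B aU v)) • (bW + t • aW) := fun v => by
      rw [hRf, show ((-1 : F))⁻¹ = -1 by norm_num]
      simp only [map_add, map_smul, LinearMap.add_apply, LinearMap.smul_apply, smul_eq_mul]
      module
    obtain ⟨α, hαd⟩ : ∃ α, α = 1 + -2 * β⁻¹ * (h + t * A) * t := ⟨_, rfl⟩
    obtain ⟨β', hβ'd⟩ : ∃ β', β' = -2 * β⁻¹ * (h + t * A) := ⟨_, rfl⟩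
    obtain ⟨γ, hγd⟩ : ∃ γ, γ = -2 * β⁻¹ * (C + t * h) * t := ⟨_, rfl⟩
    obtain ⟨ε, hεd⟩ : ∃ ε, ε = 1 + -2 * β⁻¹ * (C + t * h) := ⟨_, rfl⟩
    have hRa : R.1 a = α • a + β' • b := by
      rw [hRv, alt_swap hA a bW, alt_swap hA a aW, hbWa, haWa, hbUa, haUa, ← ha, ← hb, hαd, hβ'd]
      module
    have hRb : R.1 b = γ • a + ε • b := by
      rw [hRv, alt_swap hA b bW, alt_swap hA b aW, hbWb, haWb, hbUb, haUb, ← ha, ← hb, hγd, hεd]
      module
    have hα : α ≠ 0 := by
      rw [show α = β⁻¹ * (C - t * t * A) by rw [hαd]; field_simp; rw [hβd]; ring]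
      exact mul_ne_zero (inv_ne_zero ht1) ht3
    have hβ' : β' ≠ 0 := hβ'd ▸ mul_ne_zero (mul_ne_zero (neg_ne_zero.2 S.two) (inv_ne_zero ht1)) ht2
    have hne : 2 * α * γ ≠ 0 ∨ 2 * β' * ε ≠ 0 := by
      rcases eq_or_ne γ 0 with hγ | hγ
      · refine Or.inr (mul_ne_zero (mul_ne_zero S.two hβ') fun hε => hbne ?_)
        rw [hγ, hε, zero_smul, zero_smul, add_zero] at hRb
        exact R.1.map_eq_zero_iff.1 hRb
      · exact Or.inl (mul_ne_zero (mul_ne_zero S.two hα) hγ)
    obtain ⟨g₁, hg₁, hg₁f⟩ := (hroot 1).conj hRM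
    rw [hRa, hRb] at hg₁f
    have hQ : HasQ M a b (2 * α * γ) (α * ε + β' * γ) (2 * β' * ε) := ⟨g₁, hg₁, fun v => by
      rw [hg₁f]
      simp only [map_add, map_smul, LinearMap.add_apply, LinearMap.smul_apply, smul_eq_mul]
      module⟩
    have hD := S.q_add hab hQ (hroot (-(α * ε + β' * γ)))
    rw [add_zero, add_neg_cancel, add_zero] at hD
    exact S.exists_tv_of_diag hab hane hbne hne hD hl₀' hTgM hTga hTgb
  -- five elements: `h = 0` and `C / A` is a square
  push Not at hgood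
  obtain ⟨hcard, hh, s, hs⟩ : Fintype.card F = 5 ∧ h = 0 ∧ ∃ s, C = s * s * A := by
    have hsq : ∃ s, C = s * s * A := by
      by_contra! hns
      let T : Finset F := {-h / A} ∪ (Finset.univ.filter fun t => C + 2 * h * t + t * t * A = 0)
      have hT : T.card ≤ 4 := by
        refine (Finset.card_union_le _ _).trans ?_
        rw [Finset.card_singleton]
        have : (Finset.univ.filter fun t => C + 2 * h * t + t * t * A = 0).card ≤ 2 := by
          by_contra! h3
          obtain ⟨t₁, m₁, t₂, m₂, t₃, m₃, n₁, n₂, n₃⟩ := Finset.two_lt_card.1 h3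
          simp only [Finset.mem_filter, Finset.mem_univ, true_and] at m₁ m₂ m₃
          have e₁ : (t₁ - t₂) * (2 * h + (t₁ + t₂) * A) = 0 := by linear_combination m₁ - m₂
          have e₂ : (t₁ - t₃) * (2 * h + (t₁ + t₃) * A) = 0 := by linear_combination m₁ - m₃
          have f₁ := (mul_eq_zero.1 e₁).resolve_left (sub_ne_zero.2 n₁)
          have f₂ := (mul_eq_zero.1 e₂).resolve_left (sub_ne_zero.2 n₂)
          exact n₃ (sub_eq_zero.1 ((mul_eq_zero.1 (show (t₂ - t₃) * A = 0 by linear_combination f₁ - f₂)).resolve_right hA0))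
        omega
      obtain ⟨t, ht⟩ := S.many T hT
      simp only [T, Finset.mem_union, Finset.mem_singleton, Finset.mem_filter, Finset.mem_univ, true_and, not_or] at ht
      exact hns t (sub_eq_zero.1 (hgood t ht.2 fun e => ht.1 (by field_simp; linear_combination e)))
    obtain ⟨s, hs⟩ := hsq
    obtain ⟨t₁, ht₁⟩ : ∃ t₁, t₁ ∉ ({-h / A, s, -s} : Finset F) := S.many _ (le_trans Finset.card_le_three (by norm_num))
    simp only [Finset.mem_insert, Finset.mem_singleton, not_or] at ht₁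
    have hc : ∀ t, h + t * A = 0 → t = -h / A := fun t e => by field_simp; linear_combination e
    have hq₁ : C + 2 * h * t₁ + t₁ * t₁ * A = 0 := by
      by_contra e
      have h3 := hgood t₁ e fun e' => ht₁.1 (hc _ e')
      have : (t₁ - s) * (t₁ + s) * A = 0 := by linear_combination -h3 + hs
      rcases mul_eq_zero.1 ((mul_eq_zero.1 this).resolve_right hA0) with h4 | h4
      · exact ht₁.2.1 (sub_eq_zero.1 h4)
      · exact ht₁.2.2 (eq_neg_of_add_eq_zero_left h4)
    obtain ⟨t₂, ht₂d⟩ : ∃ t₂, t₂ = -2 * h / A - t₁ := ⟨_, rfl⟩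
    have hall : ∀ t : F, t ∈ ({-h / A, s, -s, t₁, t₂} : Finset F) := fun t => by
      simp only [Finset.mem_insert, Finset.mem_singleton]
      by_contra! hn
      refine absurd (hgood t ?_ fun e => hn.1 (hc _ e)) ?_
      · intro e
        have : (t - t₁) * (t - t₂) * A = 0 := by
          rw [ht₂d]; field_simp; linear_combination e - hq₁
        rcases mul_eq_zero.1 ((mul_eq_zero.1 this).resolve_right hA0) with h4 | h4
        · exact hn.2.2.2.1 (sub_eq_zero.1 h4)
        · exact hn.2.2.2.2 (sub_eq_zero.1 h4)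
      · intro e
        have : (t - s) * (t + s) * A = 0 := by linear_combination -e + hs
        rcases mul_eq_zero.1 ((mul_eq_zero.1 this).resolve_right hA0) with h4 | h4
        · exact hn.2.1 (sub_eq_zero.1 h4)
        · exact hn.2.2.1 (eq_neg_of_add_eq_zero_left h4)
    have huniv : ({-h / A, s, -s, t₁, t₂} : Finset F) = Finset.univ := Finset.eq_univ_of_forall hall
    have h5le : 5 ≤ Fintype.card F := by
      by_contra! hlt
      obtain ⟨r, hr⟩ := S.many Finset.univ (by rw [Finset.card_univ]; omega)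
      exact hr (Finset.mem_univ r)
    have hcard : Fintype.card F = 5 := by
      refine le_antisymm ?_ h5le
      rw [← Finset.card_univ, ← huniv]
      exact Finset.card_le_five
    refine ⟨hcard, ?_, s, hs⟩
    have hl : ([-h / A, s, -s, t₁, t₂] : List F).Nodup := by
      have he : [-h / A, s, -s, t₁, t₂].dedup = [-h / A, s, -s, t₁, t₂] := by
        refine (List.dedup_sublist _).eq_of_length ?_
        rw [← List.card_toFinset, show [-h / A, s, -s, t₁, t₂].toFinset = Finset.univ by simp [← huniv],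
          Finset.card_univ, hcard]
        rfl
      exact he ▸ List.nodup_dedup _
    have hsum : ∑ x ∈ ({-h / A, s, -s, t₁, t₂} : Finset F), x = 0 := by
      rw [huniv]; exact FiniteField.sum_pow_lt_card_sub_one F 1 (by omega) |> fun h => by simpa using h
    rw [show ({-h / A, s, -s, t₁, t₂} : Finset F) = [-h / A, s, -s, t₁, t₂].toFinset by simp,
      List.sum_toFinset _ hl] at hsum
    simp only [List.map_cons, List.map_nil, List.sum_cons, List.sum_nil, ht₂d] at hsum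
    have h3 : (3 : F) * (h / A) = 0 := by linear_combination -hsum
    have h50 : (5 : F) = 0 := by
      have := FiniteField.cast_card_eq_zero F
      rw [hcard] at this
      simpa using this
    have h3ne : (3 : F) ≠ 0 := fun e => one_ne_zero (show (1 : F) = 0 by linear_combination 2 * e - h50)
    exact (div_eq_zero_iff.1 ((mul_eq_zero.1 h3).resolve_left h3ne)).resolve_right hA0
  have h5 : (5 : F) = 0 := by
    have := FiniteField.cast_card_eq_zero F
    rw [hcard] at this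
    simpa using this
  have hs0 : s ≠ 0 := fun e => by
    have := hgood 1
    rw [hs, e, hh] at this
    exact hA0 (by simpa using this (by simpa using hA0) (by simpa using hA0))
  obtain ⟨p, hpd⟩ : ∃ p, p = a + (2 * s⁻¹) • b := ⟨_, rfl⟩
  obtain ⟨p', hp'd⟩ : ∃ p', p' = a - (2 * s⁻¹) • b := ⟨_, rfl⟩
  obtain ⟨pU, hpUd⟩ : ∃ pU, pU = aU + (2 * s⁻¹) • bU := ⟨_, rfl⟩
  obtain ⟨pW, hpWd⟩ : ∃ pW, pW = aW + (2 * s⁻¹) • bW := ⟨_, rfl⟩
  have hs4 : (2 * s⁻¹) * (2 * s⁻¹) * C = 4 * A := by rw [hs]; field_simp; ring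
  have hpUW : B pU pW = 0 := by
    simp only [hpUd, hpWd, map_add, map_smul, LinearMap.add_apply, LinearMap.smul_apply, smul_eq_mul, hbUaW, ← hAd,
      ← hhd, ← hCd, hh]
    linear_combination hs4 + A * h5
  have hpU : B pU p = 0 := by
    simp only [hpUd, hpd, map_add, map_smul, LinearMap.add_apply, LinearMap.smul_apply, smul_eq_mul, haUa, haUb, hbUa,
      hbUb, hh]
    linear_combination hs4 + A * h5
  have hpW : B pW p = 0 := by
    simp only [hpWd, hpd, map_add, map_smul, LinearMap.add_apply, LinearMap.smul_apply, smul_eq_mul, haWa, haWb, hbWa,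
      hbWb, hh]
    linear_combination -hs4 - A * h5
  have hpU' : B pU p' = 2 * A := by
    simp only [hpUd, hp'd, map_add, map_sub, map_smul, LinearMap.add_apply, LinearMap.smul_apply, smul_eq_mul, haUa,
      haUb, hbUa, hbUb, hh]
    linear_combination -hs4 - A * h5
  have hpW' : B pW p' = -(2 * A) := by
    simp only [hpWd, hp'd, map_add, map_sub, map_smul, LinearMap.add_apply, LinearMap.smul_apply, smul_eq_mul, haWa,
      haWb, hbWa, hbWb, hh]
    linear_combination hs4 + A * h5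
  obtain ⟨k, hk, hkf⟩ := S.shear_mem (show pU ∈ U by rw [hpUd]; exact U.add_mem haU (U.smul_mem _ hbU))
    (W.smul_mem (2 / (A * A)) (show pW ∈ W by rw [hpWd]; exact W.add_mem haW (W.smul_mem _ hbW)))
    (by rw [map_smul, hpUW, smul_zero])
  obtain ⟨δ, hδd⟩ : ∃ δ, δ = (4 / A) • (pW - pU) := ⟨_, rfl⟩
  obtain ⟨w, hwd⟩ : ∃ w, w = p' + δ := ⟨_, rfl⟩
  have hkp : k.1 p = p := by rw [hkf, hpU, map_smul, LinearMap.smul_apply, hpW]; simp
  have hkp' : k.1 p' = w := by
    rw [hkf, hpU', map_smul, LinearMap.smul_apply, hpW', hwd, hδd, smul_eq_mul]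
    match_scalars <;> field_simp <;> ring
  have hpp' : B p p' = 0 := by
    simp only [hpd, hp'd, map_add, map_sub, map_smul, LinearMap.add_apply, LinearMap.smul_apply, smul_eq_mul, hA a,
      hA b, hab, hba]
    ring
  have hwp : B w p = 0 := by rw [← hkp', ← hkp, k.2, alt_swap hA, hpp', neg_zero]
  have hwp' : B w p' = -1 := by
    rw [hwd, map_add, LinearMap.add_apply, hA p', hδd, map_smul, map_sub, LinearMap.smul_apply, LinearMap.sub_apply,
      hpU', hpW', smul_eq_mul]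
    field_simp
    linear_combination (-3 : F) * h5
  have hp'w : B p' w = 1 := by rw [alt_swap hA, hwp', neg_neg]
  obtain ⟨x, hx, hxf⟩ := hroot (2 * s⁻¹ * (-2))
  have hxf' : ∀ v, x.1 v = v - B p v • p + B p' v • p' := fun v => by
    rw [hxf, hpd, hp'd]
    simp only [map_add, map_sub, map_smul, LinearMap.add_apply, LinearMap.sub_apply, LinearMap.smul_apply, smul_eq_mul]
    module
  have hxi : ∀ v, (x⁻¹ : isomGroup B).1 v = v + B p v • p - B p' v • p' := fun v => x.1.injective (by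
    change x.1 (x.1.symm v) = _
    rw [LinearEquiv.apply_symm_apply, hxf']
    simp only [map_add, map_sub, map_smul, smul_eq_mul, hA p, hA p', hpp', alt_swap hA p' p]
    module)
  obtain ⟨Y, hYM, hYf⟩ : ∃ Y ∈ M, ∀ v, Y.1 v = v - B p' v • p' + (B w v + B p' v) • w := by
    refine ⟨k * x * k⁻¹ * x⁻¹, M.mul_mem (M.mul_mem (M.mul_mem hk hx) (M.inv_mem hk)) (M.inv_mem hx), fun v => ?_⟩
    change k.1 (x.1 (k.1.symm ((x⁻¹ : isomGroup B).1 v))) = _
    obtain ⟨v', hv'⟩ := k.1.surjective ((x⁻¹ : isomGroup B).1 v)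
    rw [← hv', LinearEquiv.symm_apply_apply, hxf', map_add, map_sub, map_smul, map_smul, hkp, hkp']
    have e1 : B p v' = B p v := by
      rw [← k.2 p v', hkp, hv', hxi]
      simp only [map_add, map_sub, map_smul, hA p, hpp', smul_eq_mul]
      ring
    have e2 : B p' v' = B w v + B p' v := by
      rw [← k.2 p' v', hkp', hv', hxi]
      simp only [map_add, map_sub, map_smul, hwp, hwp', smul_eq_mul]
      ring
    rw [e1, e2, hv', hxi]
    module
  refine ⟨(3 : F) • w - p', fun e => ?_, -2, neg_ne_zero.2 S.two, ?_⟩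
  · have := congrArg (B p') e
    rw [map_sub, map_smul, hp'w, hA p', map_zero, smul_eq_mul] at this
    exact one_ne_zero (show (1 : F) = 0 by linear_combination 2 * this - h5)
  · rw [show tv hA ((3 : F) • w - p') (-2) = Y * Y from Subtype.ext (LinearEquiv.ext fun v => by
      change _ = Y.1 (Y.1 v)
      rw [tv_apply, hYf, hYf]
      simp only [map_add, map_sub, map_smul, smul_eq_mul, hA p', hA w, hwp', hp'w, alt_swap hA v w, alt_swap hA v p']
      match_scalars
      · ring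
      · linear_combination (3 * B w v - 2 * B p' v) * h5
      · linear_combination (-B w v + B p' v) * h5)]
    exact M.mul_mem hYM hYM

/-- Transport of a transvection between mixed vectors. -/
theorem has_trans {u w u' w' : V} {c : F} (hu : u ∈ U) (hw : w ∈ W) (hu' : u' ∈ U) (hw' : w' ∈ W)
    (hu0 : u ≠ 0) (hw0 : w ≠ 0) (hu0' : u' ≠ 0) (hw0' : w' ≠ 0) (he : B u' w' = B u w)
    (h : tv hA (u + w) c ∈ M) : tv hA (u' + w') c ∈ M := by
  have hc : ∀ {k : isomGroup B} {p : V}, k ∈ M → tv hA p c ∈ M → tv hA (k.1 p) c ∈ M := fun {k p} hk hp => by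
    rw [← conj_tv hA k p c]
    exact M.mul_mem (M.mul_mem hk hp) (M.inv_mem hk)
  obtain ⟨k, hk, hkW, hku⟩ := S.move hu hu' hu0 hu0'
  have h1 := hc hk h
  rw [map_add, hku] at h1
  set w₁ := k.1 w with hw₁
  have hw₁W : w₁ ∈ W := hkW w hw
  have hβ : B u' w₁ = B u' w' := by rw [← hku, hw₁, k.2, hku, he]
  suffices H : ∃ k' ∈ M, k'.1 u' = u' ∧ k'.1 w₁ = w' by
    obtain ⟨k', hk', e1, e2⟩ := H
    have h2 := hc hk' h1
    rwa [map_add, e1, e2] at h2
  by_cases hβ0 : B u' w₁ = 0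
  · obtain ⟨e, he', heu⟩ : ∃ e ∈ U, B e u' = 0 ∧ B e w₁ = 1 := by
      obtain ⟨e, he', -, he1⟩ := S.pair.symm.exists_partner S.eps (S := ⊥) bot_le hw₁W
        (by simpa using fun e => hw0 (k.1.map_eq_zero_iff.1 (hw₁.symm.trans e))) 1
      exact ⟨e, he', S.pair.left e he' u' hu', he1⟩
    obtain ⟨ρ, hρ⟩ : ∃ ρ, ρ • w₁ = w' := by
      refine ⟨B e w', sub_eq_zero.1 (S.eps.sep _ fun v => ?_)⟩
      obtain ⟨x, hx, y, hy, rfl⟩ := S.pair.decomp v
      have hz : B e w' • w₁ - w' ∈ W := W.sub_mem (W.smul_mem _ hw₁W) hw'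
      rw [map_add, LinearMap.add_apply, S.pair.right y hy _ hz, add_zero]
      have hxs : x ∈ Submodule.span F ({u', e} : Set V) := by
        have hli : LinearIndependent F ![u', e] := by
          rw [LinearIndependent.pair_iff' hu0']
          intro a hae
          rw [← hae, map_smul B, LinearMap.smul_apply, LinearMap.smul_apply, hβ0, smul_zero] at heu
          exact zero_ne_one heu.2
        have hP2 := finrank_span_eq_card hli
        rw [show Set.range ![u', e] = {u', e} by simp [Matrix.range_cons, Matrix.range_empty, Set.pair_comm]] at hP2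
        have hle : Submodule.span F ({u', e} : Set V) ≤ U := by
          rw [Submodule.span_le, Set.insert_subset_iff, Set.singleton_subset_iff]; exact ⟨hu', he'⟩
        rw [Submodule.eq_of_le_of_finrank_eq hle (by rw [S.dim]; simpa using hP2)]
        exact hx
      obtain ⟨r₁, r₂, rfl⟩ := Submodule.mem_span_pair.1 hxs
      simp only [map_add, map_sub, map_smul, LinearMap.add_apply, LinearMap.smul_apply, smul_eq_mul, hβ0, ← hβ,
        heu.2]
      ring
    have hρ0 : ρ ≠ 0 := fun e' => hw0' (by rw [← hρ, e', zero_smul])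
    obtain ⟨T, hT, -, -, hTw, hTv⟩ := S.torus_mem he' hw₁W heu.2 (inv_ne_zero hρ0)
    refine ⟨T, hT, ?_, by rw [hTw, inv_inv, hρ]⟩
    rw [hTv, hβ0, heu.1]
    simp
  · obtain ⟨k', hk', hk'f⟩ := S.shear_mem (U.smul_mem (B u' w₁)⁻¹ hu') (W.sub_mem hw' hw₁W)
      (by rw [map_smul, LinearMap.smul_apply, map_sub, hβ, sub_self, smul_zero])
    refine ⟨k', hk', ?_, ?_⟩
    · rw [hk'f, S.eps.orth_symm' (show B u' (w' - w₁) = 0 by rw [map_sub, hβ, sub_self]), map_smul,
        LinearMap.smul_apply, hA u']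
      simp
    · rw [hk'f, S.pair.right _ (W.sub_mem hw' hw₁W) w₁ hw₁W, map_smul, LinearMap.smul_apply, smul_eq_mul,
        inv_mul_cancel₀ hβ0]
      module

/-- Conjugating one transvection by another. -/
theorem has_step {p q : V} {c c' : F} (hp : tv hA p c ∈ M) (hq : tv hA q c' ∈ M) :
    tv hA (q + (c * B q p) • p) c' ∈ M := by
  have h := conj_tv hA (tv hA p c) q c'
  rw [tv_apply] at h
  rw [← h]
  exact M.mul_mem (M.mul_mem hp hq) (M.inv_mem hp)

/-- From a mixed transvection to one with prescribed `B u w`. -/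
theorem has_form {u w : V} {c β : F} (hu : u ∈ U) (hw : w ∈ W) (hu0 : u ≠ 0) (hw0 : w ≠ 0) (hc : c ≠ 0)
    (hβ1 : β ≠ c⁻¹) (hβ2 : β ≠ -c⁻¹) (hβ0 : β ≠ 0) (h : tv hA (u + w) c ∈ M) :
    ∃ u' ∈ U, ∃ w' ∈ W, u' ≠ 0 ∧ w' ≠ 0 ∧ B u' w' = β ∧ tv hA (u' + w') c ∈ M := by
  obtain ⟨β₀, hβ₀⟩ : ∃ β₀, β₀ = B u w := ⟨_, rfl⟩
  obtain ⟨X, hX⟩ : ∃ X, X = ((β - 2 * β₀) + c⁻¹) / 2 := ⟨_, rfl⟩
  obtain ⟨Y, hY⟩ : ∃ Y, Y = ((β - 2 * β₀) - c⁻¹) / 2 := ⟨_, rfl⟩
  have h2 := S.two
  -- a second vector of the same type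
  obtain ⟨y₁, hy₁, hy₁u⟩ : ∃ y ∈ W, B u y = 1 := by
    obtain ⟨y, hy, -, hy1⟩ := S.pair.exists_partner S.eps (S := ⊥) bot_le hu (by simpa using hu0) (-1)
    exact ⟨y, hy, by rw [alt_swap hA, hy1, neg_neg]⟩
  obtain ⟨u₂, hu₂, hu₂u⟩ := S.exists_other (x := u)
  obtain ⟨y₂, hy₂, hy₂u, hy₂1⟩ := S.pair.exists_partner S.eps ((Submodule.span_singleton_le_iff_mem _ _).2 hu)
    hu₂ hu₂u 1
  have huy₂ : B u y₂ = 0 := S.eps.orth_symm' (hy₂u u (Submodule.mem_span_singleton_self u))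
  obtain ⟨t, ht⟩ : ∃ t : F, Y • y₁ + t • y₂ ∉ F ∙ w := by
    by_contra! hall
    have h0 := hall 0
    have h1 := hall 1
    have hy2 : y₂ ∈ F ∙ w := by simpa using (F ∙ w).sub_mem h1 h0
    obtain ⟨r, hr⟩ := Submodule.mem_span_singleton.1 hy2
    have hr0 : r ≠ 0 := fun e => by rw [← hr, e] at hy₂1; simp at hy₂1
    have hw' : w = r⁻¹ • y₂ := by rw [← hr, inv_smul_smul₀ hr0]
    have hβ₀0 : β₀ = 0 := by rw [hβ₀, hw', map_smul, huy₂, smul_zero]
    obtain ⟨r', hr'⟩ := Submodule.mem_span_singleton.1 h0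
    have := congrArg (B u) hr'
    simp only [map_add, map_smul, hy₁u, huy₂, smul_eq_mul, ← hβ₀, hβ₀0] at this
    rw [hY, hβ₀0] at this
    apply hβ1
    field_simp at this ⊢
    linear_combination -this
  obtain ⟨w', hw'd⟩ : ∃ w', w' = Y • y₁ + t • y₂ := ⟨_, rfl⟩
  rw [← hw'd] at ht
  have hw' : w' ∈ W := hw'd ▸ W.add_mem (W.smul_mem _ hy₁) (W.smul_mem _ hy₂)
  have huw' : B u w' = Y := by rw [hw'd, map_add, map_smul, map_smul, hy₁u, huy₂]; simp
  obtain ⟨e₁, he₁, he₁0, he₁1⟩ := S.pair.symm.exists_partner S.eps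
    ((Submodule.span_singleton_le_iff_mem _ _).2 hw) hw' ht (1 : F)
  have hwne : w ∉ F ∙ w' := fun hm => by
    obtain ⟨r, hr⟩ := Submodule.mem_span_singleton.1 hm
    have hr0 : r ≠ 0 := fun e => hw0 (by rw [← hr, e, zero_smul])
    exact ht (Submodule.mem_span_singleton.2 ⟨r⁻¹, by rw [← hr, inv_smul_smul₀ hr0]⟩)
  obtain ⟨e₂, he₂, he₂0, he₂1⟩ := S.pair.symm.exists_partner S.eps
    ((Submodule.span_singleton_le_iff_mem _ _).2 hw') hw hwne (1 : F)
  obtain ⟨u', hu'd⟩ : ∃ u', u' = X • e₂ + β₀ • e₁ := ⟨_, rfl⟩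
  have hu' : u' ∈ U := hu'd ▸ U.add_mem (U.smul_mem _ he₂) (U.smul_mem _ he₁)
  have hu'w : B u' w = X := by
    rw [hu'd, map_add, LinearMap.add_apply, map_smul, map_smul, LinearMap.smul_apply, LinearMap.smul_apply, he₂1,
      he₁0 w (Submodule.mem_span_singleton_self w)]
    simp
  have hu'w' : B u' w' = β₀ := by
    rw [hu'd, map_add, LinearMap.add_apply, map_smul, map_smul, LinearMap.smul_apply, LinearMap.smul_apply, he₁1,
      he₂0 w' (Submodule.mem_span_singleton_self w')]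
    simp
  have hu'0 : u' ≠ 0 := fun e => by
    rw [e] at hu'w hu'w'
    simp only [map_zero, LinearMap.zero_apply] at hu'w hu'w'
    rw [hX, ← hu'w'] at hu'w
    apply hβ2
    field_simp at hu'w ⊢
    linear_combination -hu'w
  have hw'0 : w' ≠ 0 := fun e => ht (e ▸ zero_mem _)
  have h' := S.has_trans hu hw hu' hw' hu0 hw0 hu'0 hw'0 (hu'w'.trans hβ₀) h
  have h3 := S.has_step h h'
  have hB : c * B (u' + w') (u + w) = 1 := by
    simp only [map_add, LinearMap.add_apply, S.pair.left u' hu' u hu, S.pair.right w' hw' w hw, hu'w,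
      alt_swap hA w' u, huw', hX, hY]
    field_simp
    ring
  rw [hB, one_smul, show u' + w' + (u + w) = (u' + u) + (w' + w) by abel] at h3
  have hB2 : B (u' + u) (w' + w) = β := by
    simp only [map_add, LinearMap.add_apply, hu'w, hu'w', huw', ← hβ₀, hX, hY]
    field_simp
    ring
  exact ⟨_, U.add_mem hu' hu, _, W.add_mem hw' hw, fun e => hβ0 (by rw [← hB2, e]; simp),
    fun e => hβ0 (by rw [← hB2, e]; simp), hB2, h3⟩

theorem axis_of_tv {p : V} {c : F} (hp0 : p ≠ 0) (hc : c ≠ 0) (h : tv hA p c ∈ M) :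
    (∃ x ∈ U, x ≠ 0 ∧ ∃ c' : F, c' ≠ 0 ∧ tv hA x c' ∈ M) ∨
      (∃ x ∈ W, x ≠ 0 ∧ ∃ c' : F, c' ≠ 0 ∧ tv hA x c' ∈ M) := by
  classical
  obtain ⟨u, hu, w, hw, rfl⟩ := S.pair.decomp p
  by_cases hu0 : u = 0
  · subst hu0; rw [zero_add] at hp0 h; exact Or.inr ⟨w, hw, hp0, c, hc, h⟩
  by_cases hw0 : w = 0
  · subst hw0; rw [add_zero] at hp0 h; exact Or.inl ⟨u, hu, hp0, c, hc, h⟩
  haveI : Fintype F := Fintype.ofFinite F
  obtain ⟨s, hs0, hs1, hs2⟩ : ∃ s : F, s ≠ 0 ∧ s * s ≠ 1 ∧ 2 * (s * s) ≠ 1 := by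
    by_cases hr : ∃ r : F, 2 * (r * r) = 1
    · obtain ⟨r, hr⟩ := hr
      have hr0 : r ≠ 0 := fun e => by rw [e] at hr; simp at hr
      have key : ∀ s : F, s ∉ ({0, 1, -1, r, -r} : Finset F) → s ≠ 0 ∧ s * s ≠ 1 ∧ 2 * (s * s) ≠ 1 := fun s hs => by
        simp only [Finset.mem_insert, Finset.mem_singleton, not_or] at hs
        refine ⟨hs.1, fun e => ?_, fun e => ?_⟩
        · rcases mul_self_eq_one_iff.1 e with h | h
          · exact hs.2.1 h
          · exact hs.2.2.1 h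
        · rcases mul_self_eq_mul_self_iff.1 (mul_left_cancel₀ S.two (e.trans hr.symm)) with h | h
          · exact hs.2.2.2.1 h
          · exact hs.2.2.2.2 h
      by_cases hex : ∃ s, s ∉ ({0, 1, -1, r, -r} : Finset F)
      · obtain ⟨s, hs⟩ := hex
        exact ⟨s, key s hs⟩
      push Not at hex
      have h5 : Fintype.card F = 5 := by
        refine le_antisymm ?_ ?_
        · rw [← Finset.card_univ]
          exact (Finset.card_le_card fun x _ => hex x).trans Finset.card_le_five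
        · by_contra! hlt
          obtain ⟨r, hr⟩ := S.many Finset.univ (by rw [Finset.card_univ]; omega)
          exact hr (Finset.mem_univ r)
      have h50 : (5 : F) = 0 := by
        have := FiniteField.cast_card_eq_zero F
        rw [h5] at this
        simpa using this
      refine ⟨2, S.two, fun e => S.two ?_, fun e => S.two ?_⟩
      · linear_combination -e + h50
      · linear_combination e - h50
    · push Not at hr
      obtain ⟨s, hs0, hs1⟩ := S.exists_unit
      exact ⟨s, hs0, hs1, hr s⟩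
  obtain ⟨β, hβd⟩ : ∃ β, β = s * s / (c * (s * s - 1)) := ⟨_, rfl⟩
  have hs11 : s * s - 1 ≠ 0 := sub_ne_zero.2 hs1
  have hden : c * (s * s - 1) ≠ 0 := mul_ne_zero hc hs11
  have hβe : β * c * (s * s - 1) = s * s := by
    rw [hβd, mul_assoc, div_mul_cancel₀ _ hden]
  have hβ0 : β ≠ 0 := fun e => by rw [e] at hβe; simp [hs0] at hβe
  have hβ1 : β ≠ c⁻¹ := fun e => by
    rw [e, inv_mul_cancel₀ hc] at hβe
    exact one_ne_zero (by linear_combination -hβe : (1 : F) = 0)
  have hβ2 : β ≠ -c⁻¹ := fun e => by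
    rw [e, neg_mul, inv_mul_cancel₀ hc] at hβe
    exact hs2 (by linear_combination -hβe)
  obtain ⟨u₁, hu₁, w₁, hw₁, hu₁0, hw₁0, hβ₁, h1⟩ := S.has_form hu hw hu0 hw0 hc hβ1 hβ2 hβ0 h
  have h2 := S.has_trans hu₁ hw₁ (U.smul_mem (-s⁻¹) hu₁) (W.smul_mem (-s) hw₁) hu₁0 hw₁0
    (smul_ne_zero (neg_ne_zero.2 (inv_ne_zero hs0)) hu₁0) (smul_ne_zero (neg_ne_zero.2 hs0) hw₁0) (by
      simp only [map_smul, LinearMap.smul_apply, smul_eq_mul]; field_simp) h1
  have h3 := S.has_step h1 h2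
  have hB : c * B ((-s⁻¹) • u₁ + (-s) • w₁) (u₁ + w₁) = s := by
    simp only [map_add, map_smul, LinearMap.add_apply, LinearMap.smul_apply, smul_eq_mul,
      S.pair.left u₁ hu₁ u₁ hu₁, S.pair.right w₁ hw₁ w₁ hw₁, alt_swap hA w₁ u₁, hβ₁]
    field_simp
    linear_combination hβe
  rw [hB, show (-s⁻¹) • u₁ + (-s) • w₁ + s • (u₁ + w₁) = (s - s⁻¹) • u₁ by module] at h3
  refine Or.inl ⟨_, U.smul_mem _ hu₁, smul_ne_zero (fun e => hs1 ?_) hu₁0, c, hc, h3⟩
  field_simp at e
  linear_combination e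

/-- One transvection with centre in `U` gives all centres in `U`. -/
theorem axes_left {u : V} {c : F} (hu : u ∈ U) (hu0 : u ≠ 0) (hc : c ≠ 0) (h : tv hA u c ∈ M)
    {x : V} (hx : x ∈ U) : IsAxis hA M x := by
  have hsq : ∀ s : F, tv hA x (s * s * c) ∈ M := fun s => by
    rw [← tv_smul]
    by_cases h0 : s • x = 0
    · rw [h0, show tv hA (0 : V) c = 1 from Subtype.ext (LinearEquiv.ext fun v => by rw [tv_apply]; simp)]
      exact M.one_mem
    obtain ⟨k, hk, -, hkx⟩ := S.move hu (U.smul_mem s hx) hu0 h0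
    rw [← hkx, ← conj_tv hA k u c]
    exact M.mul_mem (M.mul_mem hk h) (M.inv_mem hk)
  intro e
  have h2 := S.two
  have h1 := M.mul_mem (hsq ((e / c + 1) / 2)) (M.inv_mem (hsq ((e / c - 1) / 2)))
  rw [mul_inv_eq_iff_eq_mul.2 (show tv hA x ((e / c + 1) / 2 * ((e / c + 1) / 2) * c) =
      tv hA x e * tv hA x ((e / c - 1) / 2 * ((e / c - 1) / 2) * c) by
    rw [tv_mul]; congr 1; field_simp; ring)] at h1
  exact h1

/-- All axes. -/
theorem all_axes {g : isomGroup B} (hg : g ∈ M) (hgP : ¬ ((U.map (g.1 : V →ₗ[F] V) = U ∧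
    W.map (g.1 : V →ₗ[F] V) = W) ∨ (U.map (g.1 : V →ₗ[F] V) = W ∧ W.map (g.1 : V →ₗ[F] V) = U))) (v : V) :
    IsAxis hA M v := by
  classical
  have pure : ∀ (A : Submodule F V), finrank F A = finrank F U →
      (∀ d ∈ A, g.1 d ∈ U ∨ g.1 d ∈ W) → A.map (g.1 : V →ₗ[F] V) = U ∨ A.map (g.1 : V →ₗ[F] V) = W := by
    intro A hA' hp
    by_cases hc : A.map (g.1 : V →ₗ[F] V) ≤ U
    · exact Or.inl (Submodule.eq_of_le_of_finrank_eq hc (by rw [LinearEquiv.finrank_map_eq, hA']))
    refine Or.inr (Submodule.eq_of_le_of_finrank_eq ?_ (by rw [LinearEquiv.finrank_map_eq, hA', S.pair.dim]))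
    obtain ⟨_, ⟨x, hx, rfl⟩, hxU⟩ := SetLike.not_le_iff_exists.1 hc
    rintro _ ⟨y, hy, rfl⟩
    rcases hp y hy with h1 | h1
    swap
    · exact h1
    have h2 := (hp x hx).resolve_left hxU
    rcases hp (x + y) (A.add_mem hx hy) with h3 | h3
    · exact absurd (by rw [map_add] at h3; simpa using U.sub_mem h3 h1) hxU
    · rw [map_add] at h3; simpa using W.sub_mem h3 h2
  obtain ⟨p, hp0, c, hc0, hhas⟩ : ∃ p, p ≠ 0 ∧ ∃ c : F, c ≠ 0 ∧ tv hA p c ∈ M := by
    by_contra hnone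
    have hU : ∀ d ∈ U, g.1 d ∈ U ∨ g.1 d ∈ W := fun d hd => by
      by_contra hh
      push Not at hh
      exact hnone (S.exists_tv_of_mixed hg hd hh.1 hh.2)
    have hW : ∀ d ∈ W, g.1 d ∈ U ∨ g.1 d ∈ W := fun d hd => by
      by_contra hh
      push Not at hh
      exact hnone (S.symm.exists_tv_of_mixed hg hd hh.2 hh.1)
    have hinj : U.map (g.1 : V →ₗ[F] V) ≠ W.map (g.1 : V →ₗ[F] V) := fun e' => by
      have e'' : U = W := Submodule.map_injective_of_injective g.1.injective e'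
      have h0 := S.pair.inf
      rw [← e'', inf_idem] at h0
      have := S.dim
      rw [h0, finrank_bot] at this
      omega
    rcases pure U rfl hU with h1 | h1 <;> rcases pure W S.pair.dim.symm hW with h2 | h2
    · exact hinj (h1.trans h2.symm)
    · exact hgP (Or.inl ⟨h1, h2⟩)
    · exact hgP (Or.inr ⟨h1, h2⟩)
    · exact hinj (h1.trans h2.symm)
  obtain ⟨t, -, htU, htW⟩ := S.pair.exists_swap S.eps (S := ⊤) fun g' a c' _ => Subgroup.mem_top g'
  have htM : t ∈ M := S.mem t (Or.inr ⟨htU, htW⟩)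
  obtain ⟨hU, hW⟩ : (∀ x ∈ U, IsAxis hA M x) ∧ ∀ x ∈ W, IsAxis hA M x := by
    rcases S.axis_of_tv hp0 hc0 hhas with ⟨x, hx, hx0, c', hc'0, h'⟩ | ⟨x, hx, hx0, c', hc'0, h'⟩
    · refine ⟨fun z hz => S.axes_left hx hx0 hc'0 h' hz, fun z hz => ?_⟩
      obtain ⟨u, hu, rfl⟩ : z ∈ U.map (t.1 : V →ₗ[F] V) := htU.symm ▸ hz
      exact (S.axes_left hx hx0 hc'0 h' hu).map htM
    · refine ⟨fun z hz => ?_, fun z hz => S.symm.axes_left hx hx0 hc'0 h' hz⟩
      obtain ⟨w, hw, rfl⟩ : z ∈ W.map (t.1 : V →ₗ[F] V) := htW.symm ▸ hz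
      exact (S.symm.axes_left hx hx0 hc'0 h' hw).map htM
  have hstep : ∀ {p q : V}, IsAxis hA M p → IsAxis hA M q → B q p ≠ 0 → IsAxis hA M (q + p) := fun {p q} hp hq hne => by
    have h1 := hq.map (hp (B q p)⁻¹)
    rwa [tv_apply, inv_mul_cancel₀ hne, one_smul] at h1
  obtain ⟨u, hu, w, hw, rfl⟩ := S.pair.decomp v
  by_cases hw0 : w = 0
  · subst hw0; rw [add_zero]; exact hU u hu
  by_cases hβ : B u w = 0
  · obtain ⟨u', hu', -, hu'w⟩ := S.pair.symm.exists_partner S.eps (S := ⊥) bot_le hw (by simpa using hw0) 1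
    have e1 := hstep (hU u' hu') (hW w hw) (by rw [alt_swap hA, hu'w]; exact neg_ne_zero.2 one_ne_zero)
    have hB : B (w + u') (u - u') = 1 := by
      simp only [map_sub, map_add, LinearMap.add_apply, alt_swap hA w u, alt_swap hA w u', hβ, hu'w,
        S.pair.left u' hu' u hu, hA u']
      ring
    have e2 := hstep (hU _ (U.sub_mem hu hu')) e1 (hB ▸ one_ne_zero)
    rwa [show w + u' + (u - u') = u + w by abel] at e2
  · have e1 := hstep (hU u hu) (hW w hw) (by rw [alt_swap hA]; exact neg_ne_zero.2 hβ)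
    rwa [add_comm w u] at e1

end PSetting

end CfsgLib.Classical.GeoFour.Sp
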