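import Cfsg.Agent.Lib.Classical.GeoFour.Sp.IsoPair
import Cfsg.Agent.Lib.Classical.SympMatrix
import Cfsg.Agent.Lib.KnownC.OrthTools
import Cfsg.Prelude.Def_GeometricClasses

/-!
# Stabilisers of two totally isotropic planes in `Sp₄(q)`, in matrix form
-/

set_option autoImplicit false

open Cfsg

namespace CfsgLib.Classical.GeoFour.Sp

/-- The stabiliser of two totally isotropic complements. -/
theorem isopair_maximal {F : Type*} [Field F] [Fintype F] (m : ℕ) (hm : m = 2) (h5 : 5 ≤ Fintype.card F) (hodd : Odd (Fintype.card F)) (D : Fin 2 → Submodule F (Fin m ⊕ Fin m → F)) (hD : Cfsg.Geo.IsMDecomposition m D) (hts : ∀ i, Cfsg.Geo.IsTotallySingularFor (Cfsg.sympForm m F) (D i)) : Cfsg.Geo.IsMaximalIn (Cfsg.spGL m F) (Cfsg.Geo.decompositionStabilizer D ⊓ Cfsg.spGL m F) := by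
  classical
  let B := CfsgLib.Classical.sympBil F m
  have hA := CfsgLib.Classical.sympBil_isAlt (F := F) m
  have hN := CfsgLib.Classical.sympBil_nondegenerate (F := F) m
  have h2 : (2 : F) ≠ 0 := CfsgLib.KnownC.OrthTools.two_ne_zero_of_odd rfl hodd
  have h : CfsgLib.Classical.IsEpsForm B (1 : F) :=
    ⟨fun a => rfl, one_mul 1, rfl, fun x y => by rw [RingHom.id_apply, one_mul]; exact CfsgLib.Classical.alt_swap hA y x, hN.2,
      ⟨1, by simpa [one_add_one_eq_two] using h2⟩, ⟨1, one_ne_zero, by simp⟩⟩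
  have hP : CfsgLib.Classical.IsoPair B (D 0) (D 1) :=
    ⟨fun x hx y hy => by rw [CfsgLib.Classical.sympBil_apply]; exact hts 0 x hx y hy,
      fun x hx y hy => by rw [CfsgLib.Classical.sympBil_apply]; exact hts 1 x hx y hy,
      eq_top_iff.2 (hD.iSup_eq_top ▸ iSup_le (Fin.forall_fin_two.2 ⟨le_sup_left, le_sup_right⟩)),
      disjoint_iff.1 (hD.indep.pairwiseDisjoint (by decide : (0 : Fin 2) ≠ 1)),
      (hD.finrank_eq 0).trans (hD.finrank_eq 1).symm⟩
  have hS : ∀ (g : CfsgLib.Classical.isomGroup B) a b c, CfsgLib.Classical.IsRt (1 : F) g a b c → B b b = 0 →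
      g ∈ (⊤ : Subgroup (CfsgLib.Classical.isomGroup B)) := fun g _ _ _ _ _ => Subgroup.mem_top g
  have hk : Module.finrank F (D 0) = 2 := by rw [hD.finrank_eq, hm]
  let e := ((CfsgLib.Classical.spEquiv (F := F) m).symm.trans (CfsgLib.Classical.spGLEquiv m))
  let ψ : CfsgLib.Classical.isomGroup B →* Matrix.GeneralLinearGroup (Fin m ⊕ Fin m) F :=
    (Cfsg.spGL m F).subtype.comp e.toMonoidHom
  have hψ : ∀ g, Matrix.toLin' (ψ g : Matrix (Fin m ⊕ Fin m) (Fin m ⊕ Fin m) F) = g.1.toLinearMap := fun g =>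
    LinearMap.ext fun x => by
      rw [Matrix.toLin'_apply]
      change ((CfsgLib.Classical.spEquiv (F := F) m).symm g).1.mulVec x = g.1 x
      rw [← CfsgLib.Classical.spEquiv_apply, MulEquiv.apply_symm_apply]
  have hψs : ∀ t ∈ Cfsg.spGL m F, ∃ g, ψ g = t := fun t ht => ⟨e.symm ⟨t, ht⟩, by
    simp only [ψ, MonoidHom.coe_comp, Function.comp_apply, MulEquiv.coe_toMonoidHom, MulEquiv.apply_symm_apply,
      Subgroup.coe_subtype]⟩
  have hiff : ∀ g : CfsgLib.Classical.isomGroup B, ψ g ∈ Cfsg.Geo.decompositionStabilizer D ↔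
      (((D 0).map g.1.toLinearMap = D 0 ∧ (D 1).map g.1.toLinearMap = D 1) ∨
        ((D 0).map g.1.toLinearMap = D 1 ∧ (D 1).map g.1.toLinearMap = D 0)) := fun g => by
    change (∃ σ : Equiv.Perm (Fin 2), ∀ i,
      (D i).map (Matrix.toLin' (ψ g : Matrix (Fin m ⊕ Fin m) (Fin m ⊕ Fin m) F)) = D (σ i)) ↔ _
    rw [hψ]
    exact CfsgLib.Classical.perm_two_iff D g.1.toLinearMap hP.inf
  refine ⟨lt_of_le_not_ge inf_le_right fun hle => ?_, fun M hM hMS => ?_⟩
  · obtain ⟨g, -, hg⟩ := h.exists_not_perm hP (by omega) hS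
    exact hg ((hiff g).1 (hle (Subtype.prop (e g))).1)
  · by_cases hMQ : M ≤ Cfsg.Geo.decompositionStabilizer D
    · exact Or.inl (le_antisymm (le_inf hMQ hMS) hM)
    obtain ⟨s, hs, hsD⟩ := SetLike.not_le_iff_exists.1 hMQ
    obtain ⟨g, rfl⟩ := hψs s (hMS hs)
    have S : PSetting hA (D 0) (D 1) (M.comap ψ) :=
      ⟨h, hP, hk, by simp [hm], h2, fun T hT => by
        obtain ⟨r, -, hr⟩ := Finset.exists_mem_notMem_of_card_lt_card (s := T) (t := Finset.univ) (by
          rw [Finset.card_univ]; omega)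
        exact ⟨r, hr⟩, fun t ht => hM ⟨(hiff t).2 ht, Subtype.prop (e t)⟩⟩
    have htop : M.comap ψ = ⊤ := CfsgLib.Classical.eq_top_of_isAxis hA hN
      (S.all_axes (g := g) hs (fun hh => hsD ((hiff g).2 hh)))
    refine Or.inr (le_antisymm hMS fun t ht => ?_)
    obtain ⟨g', rfl⟩ := hψs t ht
    exact (htop ▸ Subgroup.mem_top g' : g' ∈ M.comap ψ)

end CfsgLib.Classical.GeoFour.Sp
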