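import Cfsg.Agent.Lib.Classical.GeoFour.Sp.SubfieldTop
import Cfsg.Agent.Lib.Classical.SubfieldMax.Member
import Cfsg.Agent.Lib.Classical.GSpMax

/-!
# Subfield groups in `Sp₄(q)`, `q` odd, in matrix form
-/

set_option autoImplicit false
set_option linter.unusedSectionVars false

open Cfsg Matrix Module

namespace CfsgLib.Classical.GeoFour.Sp

variable {F : Type*} [Field F] [Fintype F] {m : ℕ}

theorem subfield_maximal (hm : 2 ≤ m) (h2 : (2 : F) ≠ 0) (F₀ : Subfield F) (r : ℕ) (hr : r.Prime) (hcard : Fintype.card F = Nat.card F₀ ^ r) (P : Matrix.GeneralLinearGroup (Fin m ⊕ Fin m) F) (ζ : F) (hζ : ζ ≠ 0) (hP : Cfsg.Geo.IsFormRationalStructure (Cfsg.sympForm m F) F₀ ζ P) :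
    Cfsg.Geo.IsMaximalIn (Cfsg.spGL m F) (Cfsg.Geo.subfieldSubgroup F₀ P ⊓ Cfsg.spGL m F) := by
  classical
  let B := ζ • CfsgLib.Classical.sympBil F m
  have hB : ∀ u v, B u v = ζ * Cfsg.sympForm m F u v := fun u v => by
    simp [B, CfsgLib.Classical.sympBil_apply]
  let Pm : Matrix (Fin m ⊕ Fin m) (Fin m ⊕ Fin m) F := P
  let Pi' : Matrix (Fin m ⊕ Fin m) (Fin m ⊕ Fin m) F := ((P⁻¹ : GL (Fin m ⊕ Fin m) F) : Matrix _ _ F)
  have hPP : ∀ x, Pm.mulVec (Pi'.mulVec x) = x := fun x => by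
    rw [Matrix.mulVec_mulVec, ← Units.val_mul, mul_inv_cancel, Units.val_one, Matrix.one_mulVec]
  have hPP' : ∀ x, Pi'.mulVec (Pm.mulVec x) = x := fun x => by
    rw [Matrix.mulVec_mulVec, ← Units.val_mul, inv_mul_cancel, Units.val_one, Matrix.one_mulVec]
  let V₀ : Submodule F₀ (Fin m ⊕ Fin m → F) :=
    { carrier := {x | ∀ i, Pi'.mulVec x i ∈ F₀}
      add_mem' := fun {a b} ha hb i => by rw [Matrix.mulVec_add]; exact add_mem (ha i) (hb i)
      zero_mem' := fun i => by rw [Matrix.mulVec_zero]; exact zero_mem F₀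
      smul_mem' := fun c a ha i => by
        rw [CfsgLib.Classical.SubfieldMax.coe_smul_eq, Matrix.mulVec_smul]; exact mul_mem c.2 (ha i) }
  have hcol : ∀ j, Pm.mulVec (Pi.single j 1) ∈ V₀ := fun j i => by
    rw [hPP', Pi.single_apply]; split_ifs <;> [exact one_mem F₀; exact zero_mem F₀]
  have hN := CfsgLib.Classical.sympBil_nondegenerate (F := F) m
  have hR : CfsgLib.Classical.SubfieldMax.IsFrame B V₀ := by
    refine ⟨fun x => ?_, ⟨fun x hx => hN.1 x fun y => ?_, fun x hx => hN.2 x fun y => ?_⟩, fun u hu v hv => ?_,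
      eq_top_iff.2 fun x _ => ?_⟩
    · show ζ • CfsgLib.Classical.sympBil F m x x = 0
      rw [CfsgLib.Classical.sympBil_isAlt m x, smul_zero]
    · have h := hx y
      exact (smul_eq_zero.1 (show ζ • CfsgLib.Classical.sympBil F m x y = 0 from h)).resolve_left hζ
    · have h := hx y
      exact (smul_eq_zero.1 (show ζ • CfsgLib.Classical.sympBil F m y x = 0 from h)).resolve_left hζ
    · have h := hP _ _ hu hv
      rw [hB]
      rwa [hPP, hPP] at h
    · rw [show x = ∑ j, Pi'.mulVec x j • Pm.mulVec (Pi.single j 1) by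
        rw [← (Finset.sum_congr rfl fun j _ => Matrix.mulVec_smul Pm (Pi'.mulVec x j) (Pi.single j 1)),
          ← Matrix.mulVec_sum]
        conv_lhs => rw [← hPP x]
        congr 1
        ext i; simp [Finset.sum_apply, Pi.single_apply]]
      exact Submodule.sum_mem _ fun j _ => Submodule.smul_mem _ _ (Submodule.subset_span (hcol j))
  let ψ : CfsgLib.Classical.isomGroup B →* GL (Fin m ⊕ Fin m) F :=
    CfsgLib.Classical.linToGL.comp (CfsgLib.Classical.isomGroup B).subtype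
  have hψ : ∀ g x, (ψ g : Matrix _ _ F).mulVec x = g.1 x := fun g x => CfsgLib.Classical.linToGL_mulVec _ _
  have hψmem : ∀ g, ψ g ∈ Cfsg.spGL m F := fun g u v => by
    show Cfsg.sympForm m F ((ψ g : Matrix _ _ F).mulVec u) ((ψ g : Matrix _ _ F).mulVec v) = Cfsg.sympForm m F u v
    rw [hψ, hψ]
    exact mul_left_cancel₀ hζ (by rw [← hB, ← hB]; exact g.2 u v)
  have hψs : ∀ t ∈ Cfsg.spGL m F, ∃ g, ψ g = t := by
    intro t ht
    let e : (Fin m ⊕ Fin m → F) ≃ₗ[F] (Fin m ⊕ Fin m → F) :=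
      LinearEquiv.ofLinearMap (Matrix.toLin' (t : Matrix _ _ F)) (Matrix.toLin' ((t⁻¹ : GL (Fin m ⊕ Fin m) F) : Matrix _ _ F))
        (by rw [← Matrix.toLin'_mul, ← Units.val_mul, mul_inv_cancel, Units.val_one, Matrix.toLin'_one])
        (by rw [← Matrix.toLin'_mul, ← Units.val_mul, inv_mul_cancel, Units.val_one, Matrix.toLin'_one])
    refine ⟨⟨e, fun x y => ?_⟩, Units.ext (Matrix.ext_iff_mulVec.2 fun x => ?_)⟩
    · rw [hB, hB, show Cfsg.sympForm m F (e x) (e y) = Cfsg.sympForm m F x y from ht x y]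
    · rw [hψ]; simp [e]
  have hH : ∀ g, ψ g ∈ Geo.subfieldSubgroup F₀ P ↔ ∃ s : F, s ≠ 0 ∧ ∀ f ∈ V₀, s • g.1 f ∈ V₀ := by
    intro g
    rw [CfsgLib.Classical.SubfieldMax.mem_subfieldSubgroup_iff]
    refine exists_congr fun c => and_congr_right fun _ => ⟨fun h f hf i => ?_, fun h a b => ?_⟩
    · have e : Pi'.mulVec (c • g.1 f) = (c • ((P⁻¹ * ψ g * P : GL (Fin m ⊕ Fin m) F) : Matrix _ _ F)).mulVec (Pi'.mulVec f) := by
        rw [Matrix.mulVec_smul, Matrix.smul_mulVec, Units.val_mul, Units.val_mul, ← Matrix.mulVec_mulVec,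
          ← Matrix.mulVec_mulVec, show (P : Matrix _ _ F).mulVec (Pi'.mulVec f) = f from hPP f, hψ]
      rw [e]
      simp only [Matrix.mulVec, dotProduct]
      refine Subfield.sum_mem _ fun j _ => mul_mem ?_ (hf j)
      exact h i j
    · have := h _ (hcol b) a
      rw [Matrix.mulVec_smul, Pi.smul_apply, ← hψ, Matrix.mulVec_mulVec, Matrix.mulVec_mulVec, Matrix.mulVec_single_one] at this
      rw [Units.val_mul, Units.val_mul]
      exact this
  have hdim : 4 ≤ Module.finrank F₀ V₀ :=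
    le_trans (by rw [Module.finrank_fintype_fun_eq_card]; simp; omega) hR.finrank_le
  have hrat : ∀ u ∈ V₀, ∀ c ∈ F₀, ψ (CfsgLib.Classical.tv hR.isAlt u c) ∈ Geo.subfieldSubgroup F₀ P := by
    intro u hu c hc
    refine (hH _).2 ⟨1, one_ne_zero, fun f hf => ?_⟩
    rw [one_smul, CfsgLib.Classical.tv_apply]
    exact add_mem hf (CfsgLib.Classical.SubfieldMax.smul_mem' (mul_mem hc (hR.form f hf u hu)) hu)
  refine ⟨lt_of_le_of_ne inf_le_right ?_, fun M hM hMK => ?_⟩
  · intro he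
    obtain ⟨lam, hlam⟩ : ∃ lam : F, lam ∉ F₀ := by
      by_contra h
      push Not at h
      have h1 : Fintype.card F = Nat.card F₀ := by
        rw [← Nat.card_eq_fintype_card]
        exact (Nat.card_congr (Equiv.subtypeUnivEquiv h)).symm
      rw [h1] at hcard
      exact (lt_self_pow₀ (Finite.one_lt_card (α := F₀)) hr.one_lt).ne hcard
    haveI := Module.nontrivial_of_finrank_pos (R := F₀) (M := V₀) (by omega)
    obtain ⟨u, hu⟩ := exists_ne (0 : V₀)
    obtain ⟨y, hy⟩ : ∃ y : V₀, B (y : _ → F) (u : _ → F) ≠ 0 := by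
      by_contra hc
      push Not at hc
      exact hu (Subtype.ext (hR.sep fun z hz => hc ⟨z, hz⟩))
    obtain ⟨s, hs, hsV⟩ := (hH _).1 (he.symm.le (hψmem (CfsgLib.Classical.tv hR.isAlt (u : _ → F) lam))).1
    have hb := hR.form _ y.2 _ u.2
    have h1 := hR.form _ y.2 _ (hsV _ u.2)
    rw [CfsgLib.Classical.tv_apply, hR.isAlt (u : _ → F), mul_zero, zero_smul, add_zero, map_smul, smul_eq_mul] at h1
    have hs0 : s ∈ F₀ := by
      have := div_mem h1 hb
      rwa [mul_div_cancel_right₀ _ hy] at this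
    have h2 := hR.form _ y.2 _ (hsV _ y.2)
    rw [CfsgLib.Classical.tv_apply, map_smul, map_add, map_smul, hR.isAlt (y : _ → F), zero_add, smul_eq_mul,
      smul_eq_mul] at h2
    have h3 := div_mem h2 (mul_mem (mul_mem hs0 hb) hb)
    refine hlam ?_
    convert h3 using 1
    field_simp
  · rcases eq_or_ne M (Geo.subfieldSubgroup F₀ P ⊓ Cfsg.spGL m F) with h | h
    · exact Or.inl h
    refine Or.inr (le_antisymm hMK ?_)
    obtain ⟨t, ht, htH⟩ := SetLike.not_le_iff_exists.1 fun hle => h (le_antisymm hle hM)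
    obtain ⟨g, rfl⟩ := hψs t (hMK ht)
    have htop := SubTop.symp_top (hR := hR) (M := M.comap ψ)
      (fun u hu c hc => hM ⟨hrat u hu c hc, hψmem _⟩) h2 hdim hr hcard (g := g) ht
      (fun hex => htH ⟨(hH g).2 hex, hψmem g⟩)
    intro s hs
    obtain ⟨g', rfl⟩ := hψs s hs
    exact (htop ▸ Subgroup.mem_top g' : g' ∈ M.comap ψ)

end CfsgLib.Classical.GeoFour.Sp
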