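import Cfsg.Agent.Lib.Classical.SubfieldMax.SympSmall

/-!
# Above the rational symplectic group in dimension four, odd characteristic

In index two a vector of the extension either is a multiple of a rational one, or lies in a totally isotropic
rational plane, or can be moved into one.
-/

set_option autoImplicit false
set_option linter.unusedSectionVars false
set_option backward.isDefEq.respectTransparency false

open Module Matrix
open scoped MatrixGroups

namespace CfsgLib.Classical.GeoFour.Sp.SubTop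

open CfsgLib.Classical.SubfieldMax
open CfsgLib.Classical.Dickson (upT)

variable {F : Type*} [Field F] [Fintype F] {V : Type*} [AddCommGroup V] [Module F V] [FiniteDimensional F V]
  {F₀ : Subfield F} {B : V →ₗ[F] V →ₗ[F] F} {V₀ : Submodule F₀ V}
  {hR : IsFrame B V₀} {M : Subgroup (isomGroup B)}

/-- An irrational coefficient at a rational vector gives its whole root group. -/
theorem axis_of_irr (hM : RatTV hR M) (hcard : Fintype.card F = Nat.card F₀ ^ 2) {v : V} (hv : v ∈ V₀) {t : F}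
    (ht : t ∉ F₀) (h : ∀ c ∈ F₀, tv hR.isAlt v (c * t) ∈ M) : IsAxis hR.isAlt M v := by
  classical
  intro c
  obtain ⟨⟨p, q⟩, hpq⟩ : ∃ pq : F₀ × F₀, (pq.1 : F) + (pq.2 : F) * t = c := by
    refine (Nat.bijective_iff_injective_and_card (fun pq : F₀ × F₀ => (pq.1 : F) + (pq.2 : F) * t)).2 ⟨?_, ?_⟩
      |>.2 c
    · rintro ⟨p, q⟩ ⟨p', q'⟩ h
      simp only at h
      by_cases hqq : q = q'
      · subst hqq; simpa using h
      refine absurd ?_ ht
      have e : t = ((p' : F) - p) / ((q : F) - q') := by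
        rw [eq_div_iff (sub_ne_zero.2 fun e => hqq (Subtype.ext e))]
        linear_combination h
      rw [e]
      exact div_mem (sub_mem p'.2 p.2) (sub_mem q.2 q'.2)
    · rw [Nat.card_prod, Nat.card_eq_fintype_card (α := F), hcard]; ring
  rw [← hpq, ← tv_mul]
  exact mul_mem (hM _ hv p p.2) (h _ q.2)

/-- An irrational ratio on a totally isotropic rational plane. -/
theorem axis_of_plane (hM : RatTV hR M) (h2 : (2 : F) ≠ 0) (hcard : Fintype.card F = Nat.card F₀ ^ 2) {a r : V₀}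
    (har : B (a : V) (r : V) = 0) (hind : a ∉ Submodule.span F₀ {x | x ∈ [r]}) {μ : F} (hμ : μ ∉ F₀)
    (h : ∀ c ∈ F₀, tv hR.isAlt ((a : V) + μ • (r : V)) c ∈ M) : IsAxis hR.isAlt M (r : V) := by
  have hA := hR.isAlt
  obtain ⟨a', haa', hL⟩ := exists_partner_avoid hM [r] (by simp) hind
  have hra' : B (r : V) (a' : V) = 0 := hL r (by simp)
  have hm : sh hA (r : V) (a' : V) 1 ∈ M := hM.sh_mem r.2 a'.2 (one_mem _)
  have hma : (sh hA (r : V) (a' : V) 1).1 ((a : V) + μ • (r : V)) = (a : V) + (μ + 1) • (r : V) := by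
    rw [sh_apply hA hra']
    simp only [map_add, map_smul, LinearMap.add_apply, LinearMap.smul_apply, har, haa', hA (r : V), hra',
      smul_eq_mul]
    module
  have h2μ : 2 * μ ∉ F₀ := fun e => hμ (by
    rw [show μ = 2 * μ / 2 by field_simp]
    exact div_mem e (by rw [← one_add_one_eq_two]; exact add_mem (one_mem _) (one_mem _)))
  refine axis_of_irr hM hcard r.2 h2μ fun c hc => ?_
  have h1 := mul_mem (mul_mem hm (h c hc)) (inv_mem hm)
  rw [conj_tv, hma] at h1
  have h3 := mul_mem (mul_mem (mul_mem h1 (h (-c) (neg_mem hc))) (hM.sh_mem a.2 r.2 (neg_mem hc)))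
    (hM _ r.2 (-c) (neg_mem hc))
  convert h3 using 1
  refine Subtype.ext (LinearEquiv.ext fun z => ?_)
  have hra : B (r : V) (a : V) = 0 := hR.symm_zero har
  simp only [Subgroup.coe_mul, LinearEquiv.mul_apply, sh_apply hA har, tv_apply, map_add, map_smul,
    LinearMap.add_apply, LinearMap.smul_apply, smul_eq_mul, hA (a : V), hA (r : V), har, hra]
  module

/-- A full rational axis in index two. -/
theorem exists_axis_two' (hM : RatTV hR M) (h2 : (2 : F) ≠ 0) (hdim : 4 ≤ finrank F₀ V₀)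
    (hcard : Fintype.card F = Nat.card F₀ ^ 2) {w : V} (hw : ∀ c ∈ F₀, tv hR.isAlt w c ∈ M) (hbad : IsBad B V₀ w) :
    ∃ a ∈ V₀, a ≠ 0 ∧ IsAxis hR.isAlt M a := by
  classical
  have hA := hR.isAlt
  have hh : (2 : F) ∈ F₀ := by rw [← one_add_one_eq_two]; exact add_mem (one_mem _) (one_mem _)
  obtain ⟨t, ht⟩ : ∃ t : F, t ∉ F₀ := by
    by_contra! hall
    have h1 : Fintype.card F = Nat.card F₀ := by
      rw [← Nat.card_eq_fintype_card]
      exact (Nat.card_congr (Equiv.subtypeUnivEquiv hall)).symm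
    rw [h1] at hcard
    exact (lt_self_pow₀ (Finite.one_lt_card (α := F₀)) one_lt_two).ne hcard
  have hrep : ∀ s : F, s ∉ F₀ → ∀ c : F, ∃ p q : F₀, (p : F) + (q : F) * s = c := fun s hs c => by
    obtain ⟨⟨p, q⟩, h⟩ := ((Nat.bijective_iff_injective_and_card
      (fun pq : F₀ × F₀ => (pq.1 : F) + (pq.2 : F) * s)).2 ⟨by
        rintro ⟨p, q⟩ ⟨p', q'⟩ h
        simp only at h
        by_cases hqq : q = q'
        · subst hqq; simpa using h
        refine absurd ?_ hs
        rw [show s = ((p' : F) - p) / ((q : F) - q') by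
          rw [eq_div_iff (sub_ne_zero.2 fun e => hqq (Subtype.ext e))]; linear_combination h]
        exact div_mem (sub_mem p'.2 p.2) (sub_mem q.2 q'.2), by
        rw [Nat.card_prod, Nat.card_eq_fintype_card (α := F), hcard]; ring⟩).2 c
    exact ⟨p, q, h⟩
  obtain ⟨θ, hθ, hθ2⟩ : ∃ θ : F, θ ∉ F₀ ∧ θ * θ ∈ F₀ := by
    obtain ⟨p, q, hpq⟩ := hrep t ht (t * t)
    refine ⟨t - q / 2, fun h => ht ?_, ?_⟩
    · rw [show t = (t - q / 2) + q / 2 by ring]; exact add_mem h (div_mem q.2 hh)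
    · rw [show (t - q / 2) * (t - q / 2) = p + q / 2 * (q / 2) by field_simp; linear_combination (-4 : F) * hpq]
      exact add_mem p.2 (mul_mem (div_mem q.2 hh) (div_mem q.2 hh))
  obtain ⟨x, y, hxy⟩ : ∃ x y : V₀, (x : V) + θ • (y : V) = w := by
    have hw' : w ∈ Submodule.span F (V₀ : Set V) := hR.spans ▸ Submodule.mem_top
    clear hw hbad
    induction hw' using Submodule.span_induction with
    | mem z hz => exact ⟨⟨z, hz⟩, 0, by simp⟩
    | zero => exact ⟨0, 0, by simp⟩
    | add a b _ _ ha hb =>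
      obtain ⟨x, y, rfl⟩ := ha
      obtain ⟨x', y', rfl⟩ := hb
      exact ⟨x + x', y + y', by push_cast; module⟩
    | smul c a _ ha =>
      obtain ⟨x, y, rfl⟩ := ha
      obtain ⟨p, q, rfl⟩ := hrep θ hθ c
      refine ⟨p • x + (q * ⟨θ * θ, hθ2⟩) • y, q • x + p • y, ?_⟩
      simp only [Submodule.coe_add, SetLike.val_smul, coe_smul_eq, MulMemClass.coe_mul]
      module
  by_cases hdep : x ∈ Submodule.span F₀ {z | z ∈ [y]}
  · -- a multiple of a rational vector
    rw [show {z | z ∈ [y]} = ({y} : Set V₀) by ext; simp] at hdep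
    obtain ⟨l, hl⟩ := Submodule.mem_span_singleton.1 hdep
    have hwy : w = ((l : F) + θ) • (y : V) := by
      rw [← hxy, ← hl, SetLike.val_smul, coe_smul_eq]; module
    obtain ⟨u₁, u₂, hu⟩ := hbad
    have hsq : ((l : F) + θ) * ((l : F) + θ) ∉ F₀ := fun h => hu (by
      rw [hwy, map_smul, map_smul, smul_eq_mul, smul_eq_mul, mul_mul_mul_comm]
      exact mul_mem h (mul_mem (hR.form _ u₁.2 _ y.2) (hR.form _ u₂.2 _ y.2)))
    refine ⟨y, y.2, fun e => hu (by rw [hwy, e]; simp), axis_of_irr hM hcard y.2 hsq fun c hc => ?_⟩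
    have := hw c hc
    rwa [hwy, tv_smul, mul_comm] at this
  by_cases hκ : B (x : V) (y : V) = 0
  · refine ⟨y, y.2, fun e => hθ ?_, axis_of_plane hM h2 hcard hκ hdep hθ fun c hc => by rw [hxy]; exact hw c hc⟩
    exfalso
    obtain ⟨u₁, u₂, hu⟩ := hbad
    refine hu ?_
    rw [← hxy, e, smul_zero, add_zero]
    exact mul_mem (hR.form _ u₁.2 _ x.2) (hR.form _ u₂.2 _ x.2)
  -- move into a totally isotropic rational plane
  obtain ⟨κ, hκd⟩ : ∃ κ : F₀, κ = ⟨B (x : V) (y : V), hR.form _ x.2 _ y.2⟩ := ⟨_, rfl⟩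
  have hκ0 : κ ≠ 0 := fun e => hκ (by rw [hκd] at e; exact congrArg Subtype.val e)
  obtain ⟨p', hp'⟩ : ∃ p' : V₀, p' = κ⁻¹ • y := ⟨_, rfl⟩
  obtain ⟨K, hK⟩ : ∃ K : F, K = θ * (κ : F) := ⟨_, rfl⟩
  have hκc : (κ : F) = B (x : V) (y : V) := by rw [hκd]
  have hxp : B (x : V) (p' : V) = 1 := by
    rw [hp', SetLike.val_smul, coe_smul_eq, map_smul, smul_eq_mul, ← hκc]
    exact inv_mul_cancel₀ (hκc ▸ hκ)
  have hwK : w = (x : V) + K • (p' : V) := by
    rw [← hxy, hp', hK, SetLike.val_smul, coe_smul_eq, smul_smul]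
    congr 2
    show θ = θ * (κ : F) * (κ : F)⁻¹
    rw [mul_inv_cancel_right₀ (hκc ▸ hκ)]
  have hK0 : K ∉ F₀ := fun h => hθ (by
    rw [show θ = K / (κ : F) by rw [hK, mul_div_cancel_right₀ _ (hκc ▸ hκ)]]
    exact div_mem h κ.2)
  have hK2 : K * K ∈ F₀ := by
    rw [hK, mul_mul_mul_comm]; exact mul_mem hθ2 (mul_mem κ.2 κ.2)
  have hK1 : K + 1 ≠ 0 := fun e => hK0 (by rw [eq_neg_of_add_eq_zero_left e]; exact neg_mem (one_mem _))
  have hK1' : K - 1 ≠ 0 := fun e => hK0 (by rw [sub_eq_zero.1 e]; exact one_mem _)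
  obtain ⟨a, ha, haL⟩ := hR.exists_perp_outside [x, p'] ⊥ (by simp; omega)
  have hxa : B (x : V) (a : V) = 0 := haL x (by simp)
  have hpa : B (p' : V) (a : V) = 0 := haL p' (by simp)
  have hax : B (a : V) (x : V) = 0 := hR.symm_zero hxa
  have hap : B (a : V) (p' : V) = 0 := hR.symm_zero hpa
  have hpx : B (p' : V) (x : V) = -1 := by rw [hR.swap, hxp]
  obtain ⟨n, hn⟩ : ∃ n : F, n = -2 / (K * K - 1) := ⟨_, rfl⟩
  have hn0 : n ∈ F₀ := hn ▸ div_mem (neg_mem hh) (sub_mem hK2 (one_mem _))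
  have hKK : K * K - 1 ≠ 0 := by
    rw [show K * K - 1 = (K - 1) * (K + 1) by ring]; exact mul_ne_zero hK1' hK1
  have hn' : n * (K * K - 1) = -2 := by rw [hn, div_mul_cancel₀ _ hKK]
  obtain ⟨μ, hμd⟩ : ∃ μ : F, μ = (K - 1) / (K + 1) := ⟨_, rfl⟩
  have hμ' : μ * (K + 1) = K - 1 := by rw [hμd, div_mul_cancel₀ _ hK1]
  have hμ : μ ∉ F₀ := fun h => hK0 (by
    have h1 : 1 - μ ≠ 0 := fun e => h2 (by linear_combination hμ' + (K + 1) * e)
    rw [show K = (1 + μ) / (1 - μ) by rw [eq_div_iff h1]; linear_combination -hμ']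
    exact div_mem (add_mem (one_mem _) h) (sub_mem (one_mem _) h))
  have hmove : (tv hA w n).1 (((a + x + p' : V₀) : V)) = (a : V) + μ • ((x - p' : V₀) : V) := by
    simp only [tv_apply, hwK, Submodule.coe_add, Submodule.coe_sub, map_add, map_smul, LinearMap.add_apply,
      LinearMap.smul_apply, smul_eq_mul, hax, hap, hA (x : V), hA (p' : V), hxp, hpx]
    match_scalars <;> refine mul_right_cancel₀ hK1 ?_
    · ring
    · linear_combination hn' - hμ'
    · linear_combination K * hn' + hμ'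
  have har : B (a : V) ((x - p' : V₀) : V) = 0 := by simp [hax, hap]
  have hind : a ∉ Submodule.span F₀ {z | z ∈ [x - p']} := fun hc => by
    rw [show {z | z ∈ [x - p']} = ({x - p'} : Set V₀) by ext; simp] at hc
    obtain ⟨l, hl⟩ := Submodule.mem_span_singleton.1 hc
    have := hax
    rw [← hl, SetLike.val_smul, coe_smul_eq, map_smul, LinearMap.smul_apply, Submodule.coe_sub, map_sub,
      LinearMap.sub_apply, hA (x : V), hpx, smul_eq_mul] at this
    exact ha (by rw [← hl, show l = 0 from Subtype.ext (by simpa using this)]; simp)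
  refine ⟨_, (x - p' : V₀).2, fun e => ?_, axis_of_plane hM h2 hcard har hind hμ fun c hc => ?_⟩
  · have := congrArg (B (x : V)) e
    simp [hA (x : V), hxp] at this
  · rw [← hmove, ← conj_tv]
    exact mul_mem (mul_mem (hw n hn0) (hM _ (a + x + p' : V₀).2 c hc)) (inv_mem (hw n hn0))

/-- Above the rational symplectic group, odd characteristic, dimension four. -/
theorem symp_top (hM : RatTV hR M) (h2 : (2 : F) ≠ 0) (hdim : 4 ≤ finrank F₀ V₀) {r : ℕ} (hr : r.Prime)
    (hcard : Fintype.card F = Nat.card F₀ ^ r) {g : isomGroup B} (hg : g ∈ M)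
    (hnot : ¬ ∃ s : F, s ≠ 0 ∧ ∀ f ∈ V₀, s • g.1 f ∈ V₀) : M = ⊤ := by
  classical
  have hA := hR.isAlt
  obtain ⟨e₀, hbad⟩ := exists_isBad hR (by omega) hnot
  set w := g.1 (e₀ : V) with hwdef
  have hwc : ∀ c ∈ F₀, tv hA w c ∈ M := fun c hc => by
    rw [hwdef, ← conj_tv]; exact mul_mem (mul_mem hg (hM _ e₀.2 c hc)) (inv_mem hg)
  have hw : tv hA w 1 ∈ M := hwc 1 (one_mem _)
  by_cases hr2 : r = 2
  · subst hr2
    obtain ⟨a, ha, ha0, hax⟩ := exists_axis_two' hM h2 hdim hcard hwc hbad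
    exact top_of_axis hM ha ha0 hax
  obtain ⟨u, hu⟩ : ∃ u : V₀, B (u : V) w * B (u : V) w ∉ F₀ := by
    by_contra hall
    push Not at hall
    obtain ⟨y, u, hyu⟩ := hbad
    refine hyu ?_
    have h3 := sub_mem (sub_mem (hall (y + u)) (hall y)) (hall u)
    have e : B (y : V) w * B (u : V) w = ((B ((y + u : V₀) : V) w * B ((y + u : V₀) : V) w) -
        B (y : V) w * B (y : V) w - B (u : V) w * B (u : V) w) / 2 := by
      rw [Submodule.coe_add, map_add, LinearMap.add_apply]; field_simp; ring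
    rw [e]
    exact div_mem h3 (by rw [← one_add_one_eq_two]; exact add_mem (one_mem _) (one_mem _))
  set β := B w (u : V) with hβdef
  have hβu : B (u : V) w = -β := hR.swap _ _
  rw [hβu, neg_mul_neg] at hu
  have hβ : β ≠ 0 := fun e => hu (by rw [e, mul_zero]; exact zero_mem _)
  set t := -(β * β) with ht
  have ht0 : t ∉ F₀ := fun h => hu (by simpa [ht] using neg_mem h)
  have hex : t ^ 2 ≠ -1 := by
    intro h
    let S : Subring F :=
      { carrier := {x | ∃ p q : F₀, x = (p : F) + q * t}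
        one_mem' := ⟨1, 0, by simp⟩
        zero_mem' := ⟨0, 0, by simp⟩
        add_mem' := by rintro _ _ ⟨p, q, rfl⟩ ⟨p', q', rfl⟩; exact ⟨p + p', q + q', by push_cast; ring⟩
        neg_mem' := by rintro _ ⟨p, q, rfl⟩; exact ⟨-p, -q, by push_cast; ring⟩
        mul_mem' := by
          rintro _ _ ⟨p, q, rfl⟩ ⟨p', q', rfl⟩
          exact ⟨p * p' - q * q', p * q' + q * p', by push_cast; linear_combination ((q : F) * q') * h⟩ }
    have htop : ∀ x, ∃ p q : F₀, x = (p : F) + q * t := fun x =>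
      eq_top_of_prime_degree hr hcard S (fun x hx => ⟨⟨x, hx⟩, 0, by simp⟩) (show t ∈ S from ⟨0, 1, by simp⟩) ht0 x
    have hle : Nat.card F ≤ Nat.card F₀ ^ 2 := by
      rw [pow_two, ← Nat.card_prod]
      exact Nat.card_le_card_of_surjective (fun pq : F₀ × F₀ => (pq.1 : F) + pq.2 * t)
        fun x => by obtain ⟨p, q, e⟩ := htop x; exact ⟨⟨p, q⟩, e.symm⟩
    rw [Nat.card_eq_fintype_card (α := F), hcard] at hle
    have := (Nat.pow_le_pow_iff_right (Finite.one_lt_card (α := F₀))).1 hle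
    have := hr.two_le
    omega
  obtain ⟨φ, hφl, hφu⟩ := exists_planeHom hA (e := β⁻¹ • w) (f := (u : V))
    (by rw [map_smul, LinearMap.smul_apply, smul_eq_mul, ← hβdef, inv_mul_cancel₀ hβ])
  have hup : upT t ∈ M.comap φ := by
    rw [Subgroup.mem_comap, hφu, tv_smul]
    convert hw using 2
    rw [ht, neg_neg]; field_simp
  have hall := lowS_mem h2 hr hcard (M.comap φ) (fun c hc => by
    rw [Subgroup.mem_comap, hφl]; exact hM _ u.2 c hc) hup ht0 hex
  refine top_of_axis hM u.2 (fun e => hβ (by rw [hβdef, e, map_zero])) fun c => ?_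
  have := hall c
  rwa [Subgroup.mem_comap, hφl] at this

end CfsgLib.Classical.GeoFour.Sp.SubTop
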